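import Mathlib

/-!
# S5161: the rows of the simple groups, in purely group theoretic form (helper747)

* `OddRow K` : for some Sylow 2-subgroup `T` of `K`, every subgroup containing `T`, `C(T)` and all `g ∈ N(T)` lying in
  the group generated by the 2-elements of `N(R)` for some `R ≤ T`, `R ⊴ T`, `C_T(R) ≤ R`, contains `N(T)`
  (so `Aut_K(T)` is generated by automorphisms which lie in every normal subsystem over `T`).
* `NormRow K` : `N(T)` controls fusion of subsets in `T` (so `T` is normal in the 2-fusion system).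
* `RowTwo K` : one of the two. Target of the rows: `RowTwo K` for every known nonabelian simple group `K`.

Criteria: `OddRow.of_self`, `OddRow.of_centralizes`, `OddRow.of_odd`, `OddRow.of_aut`, `OddRow.of_one`,
`NormRow.of_comm`, `RowTwo.congr`.
-/

set_option autoImplicit false

namespace Cfsg.Agent.H747

open Subgroup

variable {K : Type*} [Group K] {K' : Type*} [Group K']

/-- the group generated by the elements of `2`-power order of `N(R)` -/
def twoGen (R : Subgroup K) : Subgroup K :=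
  closure {x | x ∈ normalizer (R : Set K) ∧ ∃ k : ℕ, x ^ 2 ^ k = 1}

/-- `H` contains `T`, `C(T)` and the elements of `N(T)` in `twoGen R`, `R` centric and normal in `T`. -/
def Full (T H : Subgroup K) : Prop :=
  T ≤ H ∧ centralizer (T : Set K) ≤ H ∧
    ∀ R : Subgroup K, R ≤ T → T ≤ normalizer (R : Set K) → T ⊓ centralizer (R : Set K) ≤ R →
      ∀ g ∈ normalizer (T : Set K), g ∈ twoGen R → g ∈ H

/-- The first kind of row. -/
def OddRow (K : Type*) [Group K] : Prop :=
  ∃ T : Sylow 2 K, ∀ H : Subgroup K, Full (T : Subgroup K) H → normalizer ((T : Subgroup K) : Set K) ≤ H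

/-- The second kind of row: the normalizer of `T` controls fusion of subsets. -/
def NormRow (K : Type*) [Group K] : Prop :=
  ∃ T : Sylow 2 K, ∀ (P : Subgroup K) (g : K), P ≤ (T : Subgroup K) → (∀ x ∈ P, g * x * g⁻¹ ∈ (T : Subgroup K)) →
    ∃ n ∈ normalizer ((T : Subgroup K) : Set K), ∀ x ∈ P, g * x * g⁻¹ = n * x * n⁻¹

/-- The target of the rows. -/
def RowTwo (K : Type*) [Group K] : Prop := OddRow K ∨ NormRow K

theorem Full.gen {T H : Subgroup K} (h : Full T H) {R : Subgroup K} (h1 : R ≤ T)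
    (h2 : T ≤ normalizer (R : Set K)) (h3 : T ⊓ centralizer (R : Set K) ≤ R) {g : K}
    (hg : g ∈ normalizer (T : Set K)) (h4 : g ∈ twoGen R) : g ∈ H := h.2.2 R h1 h2 h3 g hg h4

/-! ### Transport -/

section

variable (e : K ≃* K')

theorem normalizer_map_equiv (T : Subgroup K) :
    normalizer ((T.map e.toMonoidHom : Subgroup K') : Set K') = (normalizer (T : Set K)).map e.toMonoidHom := by
  ext y
  obtain ⟨x, rfl⟩ := e.surjective y
  have h1 : ∀ (U : Subgroup K) (z : K), e z ∈ U.map e.toMonoidHom ↔ z ∈ U := by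
    intro U z
    constructor
    · rintro ⟨w, hw, he⟩
      exact (e.injective he) ▸ hw
    · exact fun h => ⟨z, h, rfl⟩
  rw [h1, mem_normalizer_iff, mem_normalizer_iff]
  constructor
  · intro h z
    have := h (e z)
    rw [h1, ← map_mul, ← map_inv, ← map_mul, h1] at this
    exact this
  · intro h z
    obtain ⟨w, rfl⟩ := e.surjective z
    rw [h1, ← map_mul, ← map_inv, ← map_mul, h1]
    exact h w

theorem centralizer_map_equiv (T : Subgroup K) :
    centralizer ((T.map e.toMonoidHom : Subgroup K') : Set K') = (centralizer (T : Set K)).map e.toMonoidHom := by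
  ext y
  obtain ⟨x, rfl⟩ := e.surjective y
  constructor
  · intro h
    refine ⟨x, fun z hz => ?_, rfl⟩
    have := h (e z) ⟨z, hz, rfl⟩
    apply e.injective
    rw [map_mul, map_mul]
    exact this
  · rintro ⟨w, hw, he⟩
    have hw' : w = x := e.injective he
    subst hw'
    rintro _ ⟨z, hz, rfl⟩
    have := hw z hz
    show e z * e w = e w * e z
    rw [← map_mul, ← map_mul, this]

end

theorem mem_map_equiv' (e : K ≃* K') (U : Subgroup K) (z : K) : e z ∈ U.map e.toMonoidHom ↔ z ∈ U := by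
  constructor
  · rintro ⟨w, hw, he⟩
    exact (e.injective he) ▸ hw
  · exact fun h => ⟨z, h, rfl⟩

theorem twoGen_map (e : K ≃* K') (R : Subgroup K) :
    twoGen (R.map e.toMonoidHom) = (twoGen R).map e.toMonoidHom := by
  rw [twoGen, twoGen, MonoidHom.map_closure]
  congr 1
  ext y
  obtain ⟨x, rfl⟩ := e.surjective y
  rw [normalizer_map_equiv]
  constructor
  · rintro ⟨h1, k, hk⟩
    refine ⟨x, ⟨(mem_map_equiv' e _ x).1 h1, k, e.injective ?_⟩, rfl⟩
    rw [map_pow, hk, map_one]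
  · rintro ⟨w, ⟨h1, k, hk⟩, he⟩
    have hw : w = x := e.injective he
    subst hw
    refine ⟨(mem_map_equiv' e _ w).2 h1, k, ?_⟩
    rw [← map_pow, hk, map_one]

/-- the image of a Sylow `2`-subgroup -/
theorem exists_sylow_map (e : K ≃* K') (T : Sylow 2 K) :
    ∃ T' : Sylow 2 K', (T' : Subgroup K') = (T : Subgroup K).map e.toMonoidHom := by
  refine ⟨⟨(T : Subgroup K).map e.toMonoidHom, T.2.map _, fun {Q} hQ hTQ => ?_⟩, rfl⟩
  have h1 : IsPGroup 2 (Q.map e.symm.toMonoidHom) := hQ.map _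
  have h2 : (T : Subgroup K) ≤ Q.map e.symm.toMonoidHom := fun x hx =>
    ⟨e x, hTQ ⟨x, hx, rfl⟩, e.symm_apply_apply x⟩
  have h3 := T.3 h1 h2
  refine le_antisymm (fun y hy => ?_) hTQ
  have h4 : e.symm y ∈ (T : Subgroup K) := by
    have : e.symm y ∈ Q.map e.symm.toMonoidHom := ⟨y, hy, rfl⟩
    rw [h3] at this
    exact this
  exact ⟨e.symm y, h4, e.apply_symm_apply y⟩

theorem OddRow.congr (e : K ≃* K') (h : OddRow K) : OddRow K' := by
  obtain ⟨T, hT⟩ := h
  obtain ⟨T', hT'⟩ := exists_sylow_map e T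
  refine ⟨T', fun H hH => ?_⟩
  rw [hT', normalizer_map_equiv]
  rw [hT'] at hH
  obtain ⟨h1, h2, h3⟩ := hH
  have key : Full (T : Subgroup K) (H.comap e.toMonoidHom) := by
    refine ⟨fun x hx => h1 ⟨x, hx, rfl⟩, fun x hx => h2 ?_, fun R hR hTR hC g hg hg2 => ?_⟩
    · rw [centralizer_map_equiv]
      exact ⟨x, hx, rfl⟩
    · refine h3 (R.map e.toMonoidHom) (Subgroup.map_mono hR) ?_ ?_ (e g) ?_ ?_
      · rw [normalizer_map_equiv]
        exact Subgroup.map_mono hTR
      · rw [centralizer_map_equiv]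
        rintro y ⟨hy1, hy2⟩
        obtain ⟨x, rfl⟩ := e.surjective y
        exact (mem_map_equiv' e _ x).2 (hC ⟨(mem_map_equiv' e _ x).1 hy1, (mem_map_equiv' e _ x).1 hy2⟩)
      · rw [normalizer_map_equiv]
        exact (mem_map_equiv' e _ g).2 hg
      · rw [twoGen_map]
        exact (mem_map_equiv' e _ g).2 hg2
  have h5 := hT _ key
  rintro y ⟨x, hx, rfl⟩
  exact h5 hx

theorem NormRow.congr (e : K ≃* K') (h : NormRow K) : NormRow K' := by
  obtain ⟨T, hT⟩ := h
  obtain ⟨T', hT'⟩ := exists_sylow_map e T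
  refine ⟨T', fun P g hP hg => ?_⟩
  rw [hT'] at hP hg ⊢
  obtain ⟨n, hn, hn2⟩ := hT (P.comap e.toMonoidHom) (e.symm g)
    (fun x hx => (mem_map_equiv' e _ x).1 (hP hx)) (fun x hx => by
      rw [← mem_map_equiv' e, map_mul, map_mul, map_inv, e.apply_symm_apply]
      exact hg _ hx)
  refine ⟨e n, ?_, fun x hx => ?_⟩
  · rw [normalizer_map_equiv]
    exact (mem_map_equiv' e _ n).2 hn
  · have h1 : e.symm x ∈ P.comap e.toMonoidHom := by
      show e (e.symm x) ∈ P
      rw [e.apply_symm_apply]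
      exact hx
    have h2 := congrArg e (hn2 _ h1)
    simpa using h2

theorem RowTwo.congr (e : K ≃* K') (h : RowTwo K) : RowTwo K' :=
  h.elim (fun h => Or.inl (h.congr e)) fun h => Or.inr (h.congr e)

/-! ### Criteria -/

/-- `N(T) = T`. -/
theorem OddRow.of_self (T : Sylow 2 K) (h : normalizer ((T : Subgroup K) : Set K) ≤ (T : Subgroup K)) : OddRow K :=
  ⟨T, fun _ hH => h.trans hH.1⟩

/-- `N(T)` is generated by `T`, `C(T)` and the elements of `twoGen R`, for one `R`. -/
theorem OddRow.of_one (T : Sylow 2 K) {R : Subgroup K} (h1 : R ≤ (T : Subgroup K))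
    (h2 : (T : Subgroup K) ≤ normalizer (R : Set K)) (h3 : (T : Subgroup K) ⊓ centralizer (R : Set K) ≤ R)
    (h : ∀ g ∈ normalizer ((T : Subgroup K) : Set K), ∃ c ∈ centralizer ((T : Subgroup K) : Set K), g * c ∈ twoGen R) :
    OddRow K := by
  refine ⟨T, fun H hH g hg => ?_⟩
  obtain ⟨c, hc, hgc⟩ := h g hg
  have hcN : c ∈ normalizer ((T : Subgroup K) : Set K) := by
    have : centralizer ((T : Subgroup K) : Set K) ≤ normalizer ((T : Subgroup K) : Set K) :=
      Subgroup.centralizer_le_normalizer _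
    exact this hc
  have h5 := hH.gen h1 h2 h3 (mul_mem hg hcN) hgc
  have h6 := mul_mem h5 (H.inv_mem (hH.2.1 hc))
  rwa [mul_inv_cancel_right] at h6

/-- An element normalizing `T`, of `2`-power order, lies in `T`. -/
theorem mem_of_two_pow [Finite K] (T : Sylow 2 K) {g : K}
    (hg : g ∈ normalizer ((T : Subgroup K) : Set K)) {k : ℕ} (hk : g ^ 2 ^ k = 1) : g ∈ (T : Subgroup K) := by
  have : Fact (Nat.Prime 2) := ⟨Nat.prime_two⟩
  have hpg : IsPGroup 2 (Subgroup.zpowers g) := by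
    obtain ⟨j, -, hj⟩ := (Nat.dvd_prime_pow Nat.prime_two).1 (orderOf_dvd_of_pow_eq_one hk)
    refine IsPGroup.of_card (n := j) ?_
    rw [Nat.card_zpowers, hj]
  have h1 := hpg.inf_normalizer_sylow T
  have h2 : g ∈ Subgroup.zpowers g ⊓ Subgroup.normalizer ((T : Subgroup K) : Set K) :=
    ⟨Subgroup.mem_zpowers g, hg⟩
  have h3 : g ∈ Subgroup.zpowers g ⊓ (T : Subgroup K) := h1 ▸ h2
  exact h3.2

/-- An element of a finite group is the product of two of its powers, a `2`-element and an element of odd order. -/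
theorem exists_two_odd [Finite K] (g : K) : ∃ (a b : ℤ) (k m : ℕ), (g ^ a) ^ 2 ^ k = 1 ∧
    Odd m ∧ (g ^ b) ^ m = 1 ∧ g = g ^ a * g ^ b := by
  obtain ⟨k, m, hm, hn⟩ := Nat.exists_eq_two_pow_mul_odd (orderOf_pos g).ne'
  have hcop : Nat.Coprime (2 ^ k) m := Nat.Coprime.pow_left k (Nat.coprime_two_left.2 hm)
  have hb : ((2 ^ k : ℕ) : ℤ) * Nat.gcdA (2 ^ k) m + (m : ℤ) * Nat.gcdB (2 ^ k) m = 1 := by
    have h := Nat.gcd_eq_gcd_ab (2 ^ k) m
    rw [hcop.gcd_eq_one] at h
    rw [← h]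
    rfl
  have hg : g ^ (2 ^ k * m) = 1 := by rw [← hn, pow_orderOf_eq_one]
  refine ⟨(m : ℤ) * Nat.gcdB (2 ^ k) m, ((2 ^ k : ℕ) : ℤ) * Nat.gcdA (2 ^ k) m, k, m, ?_, hm, ?_, ?_⟩
  · rw [← zpow_natCast, ← zpow_mul,
      show (m : ℤ) * Nat.gcdB (2 ^ k) m * ((2 ^ k : ℕ) : ℤ) = ((2 ^ k * m : ℕ) : ℤ) * Nat.gcdB (2 ^ k) m by
        push_cast; ring, zpow_mul, zpow_natCast, hg, one_zpow]
  · rw [← zpow_natCast, ← zpow_mul,
      show ((2 ^ k : ℕ) : ℤ) * Nat.gcdA (2 ^ k) m * (m : ℤ) = ((2 ^ k * m : ℕ) : ℤ) * Nat.gcdA (2 ^ k) m by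
        push_cast; ring, zpow_mul, zpow_natCast, hg, one_zpow]
  · rw [← zpow_add, add_comm, hb, zpow_one]

/-- It suffices to treat the elements of odd order of `N(T)`. -/
theorem OddRow.of_odd [Finite K] (T : Sylow 2 K)
    (h : ∀ H : Subgroup K, Full (T : Subgroup K) H →
      ∀ g ∈ normalizer ((T : Subgroup K) : Set K), Odd (orderOf g) → g ∈ H) : OddRow K := by
  refine ⟨T, fun H hH g hg => ?_⟩
  obtain ⟨a, b, k, m, h1, h2, h3, h4⟩ := exists_two_odd g
  rw [h4]
  refine mul_mem (hH.1 (mem_of_two_pow T (zpow_mem hg a) h1)) (h H hH _ (zpow_mem hg b) ?_)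
  exact h2.of_dvd_nat (orderOf_dvd_of_pow_eq_one h3)

/-- `N(T) = T C(T)` : the elements of odd order of `N(T)` centralize `T`. -/
theorem OddRow.of_centralizes [Finite K] (T : Sylow 2 K)
    (h : ∀ g ∈ normalizer ((T : Subgroup K) : Set K), Odd (orderOf g) →
      ∀ s ∈ (T : Subgroup K), g * s = s * g) : OddRow K :=
  OddRow.of_odd T fun _ hH g hg ho => hH.2.1 (mem_centralizer_iff.2 fun s hs => (h g hg ho s hs).symm)

/-- the automorphism induced by an element of the normalizer -/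
theorem exists_aut {T : Subgroup K} {g : K} (hg : g ∈ normalizer (T : Set K)) :
    ∃ α : MulAut T, ∀ x : T, ((α x : T) : K) = g * x * g⁻¹ := by
  have h1 : ∀ x : T, g * x * g⁻¹ ∈ T := fun x => (mem_normalizer_iff.1 hg x).1 x.2
  have h2 : ∀ x : T, g⁻¹ * x * g ∈ T := fun x => by
    have := (mem_normalizer_iff.1 (inv_mem hg) x).1 x.2
    rwa [inv_inv] at this
  refine ⟨{ toFun := fun x => ⟨g * x * g⁻¹, h1 x⟩
            invFun := fun x => ⟨g⁻¹ * x * g, h2 x⟩
            left_inv := fun x => ?_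
            right_inv := fun x => ?_
            map_mul' := fun x y => ?_ }, fun x => rfl⟩
  · apply Subtype.ext
    show g⁻¹ * (g * x * g⁻¹) * g = x
    group
  · apply Subtype.ext
    show g * (g⁻¹ * x * g) * g⁻¹ = x
    group
  · apply Subtype.ext
    show g * ((x : K) * y) * g⁻¹ = g * x * g⁻¹ * (g * y * g⁻¹)
    group

/-- `T` has no nontrivial automorphism of odd order. -/
theorem OddRow.of_aut [Finite K] (T : Sylow 2 K)
    (h : ∀ (φ : MulAut (T : Subgroup K)) (k : ℕ), Odd k → φ ^ k = 1 → φ = 1) : OddRow K := by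
  refine OddRow.of_centralizes T fun g hg ho s hs => ?_
  obtain ⟨α, hα⟩ := exists_aut hg
  have hpow : ∀ (n : ℕ) (x : (T : Subgroup K)), (((α ^ n) x : (T : Subgroup K)) : K) =
      g ^ n * (x : K) * (g ^ n)⁻¹ := by
    intro n
    induction n with
    | zero => intro x; simp
    | succ n ih =>
      intro x
      rw [pow_succ, MulAut.mul_apply, ih, hα, pow_succ]
      group
  have h1 : α ^ orderOf g = 1 := by
    refine MulEquiv.ext fun x => Subtype.ext ?_
    rw [hpow, pow_orderOf_eq_one]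
    simp
  have h2 := h α _ ho h1
  have h4 := hα ⟨s, hs⟩
  rw [h2] at h4
  have h5 : s = g * s * g⁻¹ := h4
  conv_rhs => rw [h5]
  group

/-- `T` abelian (Burnside). -/
theorem NormRow.of_comm [Finite K] (T : Sylow 2 K) (h : ∀ x ∈ (T : Subgroup K), ∀ y ∈ (T : Subgroup K), x * y = y * x) :
    NormRow K := by
  have hp : Fact (Nat.Prime 2) := ⟨Nat.prime_two⟩
  refine ⟨T, fun P g hP hg => ?_⟩
  -- `T` and `g⁻¹ T g` are Sylow in `C(P)`
  have hTC : (T : Subgroup K) ≤ centralizer (P : Set K) := fun x hx =>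
    mem_centralizer_iff.2 fun y hy => h y (hP hy) x hx
  have hTC' : (g⁻¹ • T : Sylow 2 K) ≤ centralizer (P : Set K) := by
    intro x hx
    refine mem_centralizer_iff.2 fun y hy => ?_
    have h1 : g * x * g⁻¹ ∈ (T : Subgroup K) := by
      rw [Sylow.coe_subgroup_smul] at hx
      obtain ⟨t, ht, rfl⟩ := hx
      show g * (g⁻¹ * t * (g⁻¹)⁻¹) * g⁻¹ ∈ (T : Subgroup K)
      have : g * (g⁻¹ * t * (g⁻¹)⁻¹) * g⁻¹ = t := by group
      rw [this]
      exact ht
    have h2 := h _ h1 _ (hg y hy)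
    have h3 : g * (x * y) * g⁻¹ = g * (y * x) * g⁻¹ := by
      calc g * (x * y) * g⁻¹ = (g * x * g⁻¹) * (g * y * g⁻¹) := by group
        _ = (g * y * g⁻¹) * (g * x * g⁻¹) := h2
        _ = g * (y * x) * g⁻¹ := by group
    exact (mul_left_cancel (mul_right_cancel h3)).symm
  obtain ⟨c, hc⟩ := MulAction.exists_smul_eq (centralizer (P : Set K)) (T.subtype hTC) ((g⁻¹ • T).subtype hTC')
  have h1 : ∀ t ∈ (T : Subgroup K), g * c * t * (g * c)⁻¹ ∈ (T : Subgroup K) := by
    intro t ht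
    have h2 : (⟨t, hTC ht⟩ : centralizer (P : Set K)) ∈ T.subtype hTC := ht
    have h3 : c * ⟨t, hTC ht⟩ * c⁻¹ ∈ c • T.subtype hTC := ⟨_, h2, rfl⟩
    rw [hc] at h3
    have h4 : (c : K) * t * (c : K)⁻¹ ∈ (g⁻¹ • T : Sylow 2 K) := h3
    obtain ⟨s, hs, he⟩ := h4
    have he' : g⁻¹ * s * (g⁻¹)⁻¹ = (c : K) * t * (c : K)⁻¹ := he
    have : g * c * t * (g * c)⁻¹ = s := by
      calc g * c * t * (g * c)⁻¹ = g * ((c : K) * t * (c : K)⁻¹) * g⁻¹ := by group
        _ = g * (g⁻¹ * s * (g⁻¹)⁻¹) * g⁻¹ := by rw [he']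
        _ = s := by group
    rw [this]
    exact hs
  refine ⟨g * (c : K), ?_, fun x hx => ?_⟩
  · have hfin : Finite (T : Subgroup K) := inferInstance
    let f : ↥(T : Subgroup K) → ↥(T : Subgroup K) := fun t =>
      ⟨g * (c : K) * (t : K) * (g * (c : K))⁻¹, h1 (t : K) t.2⟩
    have hf : Function.Injective f := by
      intro a b hab
      have := congrArg Subtype.val hab
      exact Subtype.ext (mul_left_cancel (mul_right_cancel this))
    have hs := Finite.surjective_of_injective hf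
    rw [mem_normalizer_iff]
    intro y
    constructor
    · exact h1 y
    · intro hy
      obtain ⟨z, hz⟩ := hs ⟨_, hy⟩
      have hz' : g * (c : K) * (z : K) * (g * (c : K))⁻¹ = g * (c : K) * y * (g * (c : K))⁻¹ := congrArg Subtype.val hz
      have : (z : K) = y := mul_left_cancel (mul_right_cancel hz')
      rw [← this]
      exact z.2
  · have h2 := mem_centralizer_iff.1 c.2 x hx
    have h3 : (c : K) * x * (c : K)⁻¹ = x := by
      rw [← h2]; group
    calc g * x * g⁻¹ = g * (c * x * (c : K)⁻¹) * g⁻¹ := by rw [h3]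
      _ = g * c * x * (g * c)⁻¹ := by group

end Cfsg.Agent.H747
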