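import Cfsg.Agent.H747.Tate
import Cfsg.Agent.H767.BisetIface

/-!
# A characteristic monomial `S`-set from a characteristic biset (helper747)

* `exists_charMono`: every saturated fusion system over a finite `p`-group has a characteristic monomial set.
* `tate`: Tate's theorem for fusion systems.
-/

set_option autoImplicit false

namespace Cfsg.Agent.H747

open Cfsg Cfsg.FusionSystem Cfsg.Agent.H802 Cfsg.Agent.H767.Biset

universe u

variable {Ω : Type u} [Group Ω] {S : Subgroup Ω}

section quot

variable (S) (X : Type u) [MulAction (S × S) X]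

/-- Orbits of the second factor. -/
def sndSetoid : Setoid X where
  r x y := ∃ r : S, ((1, r) : S × S) • x = y
  iseqv :=
    { refl := fun x => ⟨1, one_smul (S × S) x⟩
      symm := by
        rintro x y ⟨r, rfl⟩
        refine ⟨r⁻¹, ?_⟩
        rw [← mul_smul]
        have : ((1, r⁻¹) : S × S) * (1, r) = 1 := by
          ext <;> simp
        rw [this, one_smul]
      trans := by
        rintro x y z ⟨r, rfl⟩ ⟨s, rfl⟩
        refine ⟨s * r, ?_⟩
        rw [← mul_smul]
        have : ((1, s) : S × S) * (1, r) = (1, s * r) := by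
          ext <;> simp
        rw [this] }

theorem smul_left_snd (g r : S) (x : X) :
    ((g, 1) : S × S) • ((1, r) : S × S) • x = ((1, r) : S × S) • ((g, 1) : S × S) • x := by
  rw [← mul_smul, ← mul_smul]
  have : ((g, 1) : S × S) * (1, r) = (1, r) * (g, 1) := by ext <;> simp
  rw [this]

/-- The orbit set of the second factor. -/
def SndQuot : Type u := Quotient (sndSetoid S X)

/-- The action of the first factor on the orbits of the second factor. -/
instance instMulActionSndQuot : MulAction S (SndQuot S X) where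
  smul g := Quotient.map' (s₁ := sndSetoid S X) (s₂ := sndSetoid S X) (fun x => ((g, 1) : S × S) • x) (by
    rintro x y ⟨r, rfl⟩
    exact ⟨r, (smul_left_snd S X g r x).symm⟩)
  one_smul := by
    rintro ⟨x⟩
    show Quotient.mk (sndSetoid S X) (((1, 1) : S × S) • x) = Quotient.mk (sndSetoid S X) x
    have : ((1, 1) : S × S) = 1 := rfl
    rw [this, one_smul]
  mul_smul := by
    rintro g h ⟨x⟩
    show Quotient.mk (sndSetoid S X) (((g * h, 1) : S × S) • x) =
      Quotient.mk (sndSetoid S X) (((g, 1) : S × S) • ((h, 1) : S × S) • x)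
    rw [← mul_smul]
    have : ((g, 1) : S × S) * (h, 1) = (g * h, 1) := by ext <;> simp
    rw [this]

end quot

/-- Every saturated fusion system over a finite `p`-group has a characteristic monomial set. -/
theorem exists_charMono {F : FusionSystem S} {p : ℕ} [hp : Fact p.Prime] [Finite S]
    (hS : IsPGroup p S) (hF : F.IsSaturated p) :
    ∃ (Y : Type u) (_ : MulAction S Y) (c : S → Y → S), IsCharMono F p c := by
  classical
  obtain ⟨X, _, _, m, hpm, hm, hX, hfr, hfl, hst⟩ :=
    Cfsg.Agent.H767.FusTransfer.exists_biset hS hF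
  let Y := SndQuot S X
  let w : Y → X := fun y => Quotient.out (s := sndSetoid S X) y
  have hw : ∀ y : Y, (Quotient.mk (sndSetoid S X) (w y) : Y) = y := fun y => Quotient.out_eq _
  have hex : ∀ x : X, ∃ d : S, ((1, d⁻¹) : S × S) • w (Quotient.mk (sndSetoid S X) x) = x := by
    intro x
    obtain ⟨r, hr⟩ : (sndSetoid S X) (w (Quotient.mk (sndSetoid S X) x)) x := Quotient.mk_out x
    exact ⟨r⁻¹, by rw [inv_inv]; exact hr⟩
  choose κ hκ using hex
  -- `κ` is determined
  have huniq : ∀ (x y : X) (a b : S), ((1, a⁻¹) : S × S) • x = y → ((1, b⁻¹) : S × S) • x = y → a = b := by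
    intro x y a b ha hb
    have h1 : ((1, a * b⁻¹) : S × S) • x = x := by
      have : ((1, a * b⁻¹) : S × S) = (1, a) * (1, b⁻¹) := by ext <;> simp
      rw [this, mul_smul, hb, ← ha, ← mul_smul]
      have : ((1, a) : S × S) * (1, a⁻¹) = 1 := by ext <;> simp
      rw [this, one_smul]
    have h2 := hfr _ _ h1
    exact mul_inv_eq_one.1 h2
  have hκuniq : ∀ (x : X) (y : Y) (a : S), ((1, a⁻¹) : S × S) • w y = x → κ x = a := by
    intro x y a ha
    have h1 : (Quotient.mk (sndSetoid S X) x : Y) = y := by
      rw [← hw y]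
      exact (Quotient.sound ⟨a⁻¹, ha⟩ : (Quotient.mk (sndSetoid S X) (w y) : Y) = Quotient.mk _ x).symm
    have h2 := hκ x
    have h3 : w (Quotient.mk (sndSetoid S X) x) = w y := by
      show w ((Quotient.mk (sndSetoid S X) x : Y)) = w y
      rw [h1]
    rw [h3] at h2
    exact huniq _ _ _ _ h2 ha
  let c : S → Y → S := fun s y => κ (((s, 1) : S × S) • w y)
  -- `s w(y) = w(s y) c(s, y)`
  have hc : ∀ s y, ((1, (c s y)⁻¹) : S × S) • w (s • y) = ((s, 1) : S × S) • w y := by
    intro s y
    have h := hκ (((s, 1) : S × S) • w y)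
    have h1 : (Quotient.mk (sndSetoid S X) (((s, 1) : S × S) • w y) : Y) = s • y := by
      conv_rhs => rw [← hw y]
      rfl
    have h2 : w (Quotient.mk (sndSetoid S X) (((s, 1) : S × S) • w y)) = w (s • y) := by
      show w ((Quotient.mk (sndSetoid S X) (((s, 1) : S × S) • w y) : Y)) = _
      rw [h1]
    rw [h2] at h
    exact h
  have hsnd : ∀ (a b : S) (x : X), ((1, a⁻¹) : S × S) • ((1, b⁻¹) : S × S) • x =
      ((1, (b * a)⁻¹) : S × S) • x := by
    intro a b x
    rw [← mul_smul]
    have : ((1, a⁻¹) : S × S) * (1, b⁻¹) = (1, (b * a)⁻¹) := by ext <;> simp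
    rw [this]
  refine ⟨Y, inferInstance, c, ?_⟩
  constructor
  · exact Quotient.finite _
  · -- cocycle
    intro s t y
    refine hκuniq _ ((s * t) • y) _ ?_
    rw [← hsnd, mul_smul s t y, hc, ← smul_left_snd S X, hc, ← mul_smul]
    have : ((s, 1) : S × S) * (t, 1) = (s * t, 1) := by ext <;> simp
    rw [this]
  · -- stability
    intro P φ hφ
    obtain ⟨e, he⟩ := hst P φ hφ
    have he1 : ∀ (r : S) (x : X), e (((1, r) : S × S) • x) = ((1, r) : S × S) • e x := by
      intro r x
      have h := he 1 r x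
      have h1 : ((⟨((1 : P) : Ω), hom_le hφ (1 : P).2⟩, r) : S × S) = (1, r) := rfl
      have h2 : ((⟨φ 1, hom_apply_mem hφ 1⟩, r) : S × S) = (1, r) := by
        ext
        · show φ 1 = 1
          exact map_one φ
        · rfl
      rw [h1, h2] at h
      exact h
    have he2 : ∀ (r : S) (x : X), e.symm (((1, r) : S × S) • x) = ((1, r) : S × S) • e.symm x := by
      intro r x
      rw [Equiv.symm_apply_eq, he1, Equiv.apply_symm_apply]
    let eY : Y ≃ Y :=
      { toFun := Quotient.map' (s₁ := sndSetoid S X) (s₂ := sndSetoid S X) e (by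
          rintro x y ⟨r, rfl⟩
          exact ⟨r, (he1 r x).symm⟩)
        invFun := Quotient.map' (s₁ := sndSetoid S X) (s₂ := sndSetoid S X) e.symm (by
          rintro x y ⟨r, rfl⟩
          exact ⟨r, (he2 r x).symm⟩)
        left_inv := by
          rintro ⟨x⟩
          show Quotient.mk (sndSetoid S X) (e.symm (e x)) = Quotient.mk (sndSetoid S X) x
          rw [Equiv.symm_apply_apply]
        right_inv := by
          rintro ⟨x⟩
          show Quotient.mk (sndSetoid S X) (e (e.symm x)) = Quotient.mk (sndSetoid S X) x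
          rw [Equiv.apply_symm_apply] }
    have heY : ∀ x : X, eY (Quotient.mk (sndSetoid S X) x : Y) = Quotient.mk (sndSetoid S X) (e x) :=
      fun x => rfl
    let d : Y → S := fun y => κ (e (w y))
    -- `e(w y) = w(e y) d(y)`
    have hd : ∀ y, ((1, (d y)⁻¹) : S × S) • w (eY y) = e (w y) := by
      intro y
      have h := hκ (e (w y))
      have h1 : (Quotient.mk (sndSetoid S X) (e (w y)) : Y) = eY y := by
        rw [← heY, hw]
      have h2 : w (Quotient.mk (sndSetoid S X) (e (w y))) = w (eY y) := by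
        show w ((Quotient.mk (sndSetoid S X) (e (w y)) : Y)) = _
        rw [h1]
      rw [h2] at h
      exact h
    refine ⟨eY, d, fun g gs hs hg hh y => ?_⟩
    have hgs : gs = ⟨g, hom_le hφ g.2⟩ := Subtype.ext hg
    have hhs : hs = ⟨φ g, hom_apply_mem hφ g⟩ := Subtype.ext hh
    have heg : ∀ x : X, e (((gs, 1) : S × S) • x) = ((hs, 1) : S × S) • e x := by
      intro x
      rw [hgs, hhs]
      exact he g 1 x
    have h1 : eY (gs • y) = hs • eY y := by
      have h2 : gs • y = (Quotient.mk (sndSetoid S X) (((gs, 1) : S × S) • w y) : Y) := by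
        conv_lhs => rw [← hw y]
        rfl
      have h3 : eY y = (Quotient.mk (sndSetoid S X) (e (w y)) : Y) := by
        conv_lhs => rw [← hw y]
        exact heY _
      rw [h2, heY, heg, h3]
      rfl
    refine ⟨h1, ?_⟩
    -- `φ(g) w(e y) d(y) = w(φ(g) e y) c(φ(g), e y) d(y)` and `= e(g w y) = w(e(g y)) d(g y) c(g, y)`
    have h4 : ((1, (c hs (eY y) * d y)⁻¹) : S × S) • w (hs • eY y) = e (((gs, 1) : S × S) • w y) := by
      rw [← hsnd, hc, ← smul_left_snd S X, hd, heg]
    have h5 : ((1, (d (gs • y) * c gs y)⁻¹) : S × S) • w (hs • eY y) = e (((gs, 1) : S × S) • w y) := by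
      rw [← hsnd, ← h1, hd, ← he1, hc]
    have h6 := huniq _ _ _ _ h4 h5
    rw [← h6]
    group
  · -- generation
    intro y
    obtain ⟨P, φ, hφ, hP⟩ := hX (w y)
    refine ⟨P, φ, hφ, fun s hs => ?_⟩
    have h1 := hc s y
    rw [hs] at h1
    have h2 : ((s, c s y) : S × S) • w y = w y := by
      have : ((s, c s y) : S × S) = (1, c s y) * (s, 1) := by ext <;> simp
      rw [this, mul_smul, ← h1, ← mul_smul]
      have : ((1, c s y) : S × S) * (1, (c s y)⁻¹) = 1 := by ext <;> simp
      rw [this, one_smul]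
    have h3 : ((s, c s y) : S × S) ∈ MulAction.stabilizer (S × S) (w y) := h2
    rw [hP] at h3
    obtain ⟨h4, h5⟩ := h3
    exact ⟨h4, h5.symm⟩
  · -- the number of orbits
    have hcard : Nat.card X = Nat.card S * Nat.card Y := by
      have e : X ≃ S × Y :=
        { toFun := fun x => (κ x, Quotient.mk (sndSetoid S X) x)
          invFun := fun z => ((1, z.1⁻¹) : S × S) • w z.2
          left_inv := fun x => hκ x
          right_inv := by
            rintro ⟨a, y⟩
            have h1 : (Quotient.mk (sndSetoid S X) (((1, a⁻¹) : S × S) • w y) : Y) = y := by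
              conv_rhs => rw [← hw y]
              exact (Quotient.sound ⟨a⁻¹, rfl⟩ :
                (Quotient.mk (sndSetoid S X) (w y) : Y) = Quotient.mk _ (((1, a⁻¹) : S × S) • w y)).symm
            exact Prod.ext (hκuniq _ y a rfl) h1 }
      rw [Nat.card_congr e, Nat.card_prod]
    rw [hcard] at hm
    have : Nat.card Y = m := Nat.eq_of_mul_eq_mul_left Nat.card_pos hm
    rw [this]
    exact hpm

/-- **Tate's theorem for fusion systems.** -/
theorem tate {F H : FusionSystem S} {p : ℕ} [hp : Fact p.Prime] [Finite S]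
    (hS : IsPGroup p S) (hF : F.IsSaturated p) (hH : H.IsSaturated p) (hle : H.IsSubsystemOf F)
    (h : F.focalSubgroup ≤ (frattini ↥S).map S.subtype ⊔ H.focalSubgroup) :
    F.hyperfocalSubgroup p = H.hyperfocalSubgroup p := by
  obtain ⟨Y, _, c, hc⟩ := exists_charMono hS hF
  exact tate_of_charMono hS hF hH hle hc h

/-- **Tate's theorem**, key form: if `K` is normal in `S` and `K ≤ hyp(F) ≤ Φ(S) K` then `hyp(F) = K`. -/
theorem hyperfocal_eq_of_le_frattini_sup {F : FusionSystem S} {p : ℕ} [hp : Fact p.Prime] [Finite S]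
    (hS : IsPGroup p S) (hF : F.IsSaturated p) {K : Subgroup Ω}
    (hKn : S ≤ Subgroup.normalizer (K : Set Ω)) (hK : K ≤ F.hyperfocalSubgroup p)
    (h : F.hyperfocalSubgroup p ≤ (frattini ↥S).map S.subtype ⊔ K) :
    F.hyperfocalSubgroup p = K := by
  obtain ⟨Y, _, c, hc⟩ := exists_charMono hS hF
  exact hyperfocal_eq_of_charMono hS hF hc hKn hK h

/-- A saturated system with trivial hyperfocal subgroup is the inner system. -/
theorem hom_eq_inner_of_hyperfocal_eq_bot {F : FusionSystem S} {p : ℕ} [hp : Fact p.Prime] [Finite S]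
    (hS : IsPGroup p S) (hF : F.IsSaturated p) (h : F.hyperfocalSubgroup p = ⊥) (P : Subgroup Ω) :
    F.Hom P = (innerFusionSystem S).Hom P := by
  apply Set.Subset.antisymm
  · intro φ hφ
    obtain ⟨b, hb, hbe⟩ := exists_inner_mod hS hF (T := ⊥) (by
      rw [Subgroup.normalizer_eq_top (H := (⊥ : Subgroup Ω))]; exact le_top) h.le P φ hφ
    refine ⟨hom_le hφ, b, hb, fun x => ?_⟩
    have := Subgroup.mem_bot.1 (hbe x)
    exact (inv_mul_eq_one.1 this).symm
  · rintro φ ⟨hP, g, hg, he⟩
    exact mem_of_apply_eq (F.conj_mem hP hg) he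

/-- **A saturated system whose focal subgroup is contained in `Φ(S)` is the inner system** (Tate). -/
theorem hom_eq_inner_of_focal_le_frattini {F : FusionSystem S} {p : ℕ} [hp : Fact p.Prime] [Finite S]
    (hS : IsPGroup p S) (hF : F.IsSaturated p) (h : F.focalSubgroup ≤ (frattini ↥S).map S.subtype)
    (P : Subgroup Ω) : F.Hom P = (innerFusionSystem S).Hom P := by
  refine hom_eq_inner_of_hyperfocal_eq_bot hS hF ?_ P
  refine hyperfocal_eq_of_le_frattini_sup hS hF ?_ bot_le ?_
  · rw [Subgroup.normalizer_eq_top (H := (⊥ : Subgroup Ω))]; exact le_top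
  · exact ((hyperfocal_le_focal F p).trans h).trans le_sup_left

end Cfsg.Agent.H747
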