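import Cfsg.Agent.H747.MonoOrbit
import Cfsg.Agent.H747.MonoOfBiset

/-!
# Yoshida's theorem for fusion systems (helper747)

* `transfer_eq_one_of_mem_focal`: the transfer of `θ : S → C_p` over a characteristic monomial set kills `foc(F)`.
* `yoshida`: `H ≤ F` saturated over `S`, `F.Hom S = H.Hom S`, `foc(F) ≠ foc(H)`: `S` has a quotient `C_p ≀ C_p`.
-/

set_option autoImplicit false

namespace Cfsg.Agent.H747

open Cfsg Cfsg.FusionSystem Cfsg.Agent.H802

/-- Homomorphisms to the group of order `p` separate the elements of a group of exponent `p`. -/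
theorem exists_hom_zmod_of_comm {V : Type*} [CommGroup V] {p : ℕ} [hp : Fact p.Prime]
    (hV : ∀ v : V, v ^ p = 1) {v : V} (hv : v ≠ 1) : ∃ θ : V →* Multiplicative (ZMod p), θ v ≠ 1 := by
  let _ : Module (ZMod p) (Additive V) := AddCommGroup.zmodModule (n := p) (fun x => hV x.toMul)
  have hv' : Additive.ofMul v ≠ 0 := hv
  obtain ⟨φ, hφ⟩ : ∃ φ : Module.Dual (ZMod p) (Additive V), φ (Additive.ofMul v) ≠ 0 := by
    by_contra hcon
    push Not at hcon
    exact hv' ((Module.forall_dual_apply_eq_zero_iff (ZMod p) _).1 hcon)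
  exact ⟨AddMonoidHom.toMultiplicativeRight φ.toAddMonoidHom, hφ⟩

/-- A subgroup containing the Frattini subgroup of a finite `p`-group is the intersection of kernels of
homomorphisms to the group of order `p`. -/
theorem exists_hom_zmod {G : Type*} [Group G] [Finite G] {p : ℕ} [hp : Fact p.Prime]
    (hG : IsPGroup p G) {L : Subgroup G} (hL : frattini G ≤ L) {y : G} (hy : y ∉ L) :
    ∃ θ : G →* Multiplicative (ZMod p), (∀ x ∈ L, θ x = 1) ∧ θ y ≠ 1 := by
  have hcomm : ∀ a b : G, a * b * a⁻¹ * b⁻¹ ∈ L := fun a b =>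
    hL (Cfsg.Agent.Lib.FrattiniPGroup.commutator_mem_frattini hG a b)
  have hLn : L.Normal := by
    refine ⟨fun n hn g => ?_⟩
    have h1 := L.mul_mem (hcomm g n) hn
    have h2 : g * n * g⁻¹ * n⁻¹ * n = g * n * g⁻¹ := by group
    rwa [h2] at h1
  let _ : CommGroup (G ⧸ L) :=
    { (inferInstance : Group (G ⧸ L)) with
      mul_comm := by
        intro a b
        obtain ⟨a, rfl⟩ := QuotientGroup.mk'_surjective L a
        obtain ⟨b, rfl⟩ := QuotientGroup.mk'_surjective L b
        rw [← map_mul, ← map_mul]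
        refine (QuotientGroup.eq (s := L)).2 ?_
        have h1 := hcomm b⁻¹ a⁻¹
        have h2 : b⁻¹ * a⁻¹ * b⁻¹⁻¹ * a⁻¹⁻¹ = (a * b)⁻¹ * (b * a) := by group
        rwa [h2] at h1 }
  obtain ⟨θ, hθ⟩ := exists_hom_zmod_of_comm (V := G ⧸ L) (p := p) (by
    intro x
    obtain ⟨x, rfl⟩ := QuotientGroup.mk'_surjective L x
    have h1 : x ^ p ∈ L := hL (Cfsg.Agent.Lib.FrattiniPGroup.pow_mem_frattini hG x)
    have h2 : (QuotientGroup.mk' L) (x ^ p) = 1 := (QuotientGroup.eq_one_iff _).2 h1
    exact h2) (v := QuotientGroup.mk' L y) (fun h => hy ((QuotientGroup.eq_one_iff (N := L) _).1 h))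
  refine ⟨θ.comp (QuotientGroup.mk' L), fun x hx => ?_, hθ⟩
  have h2 : (QuotientGroup.mk' L) x = 1 := (QuotientGroup.eq_one_iff _).2 hx
  show θ ((QuotientGroup.mk' L) x) = 1
  rw [h2]
  exact map_one θ

variable {Ω : Type*} [Group Ω] {S : Subgroup Ω}

/-- The transfer of a homomorphism over a stable monomial set is invariant and so kills the focal subgroup. -/
theorem transfer_eq_one_of_mem_focal {F : FusionSystem S} {Y : Type*} [MulAction S Y] [Fintype Y]
    {c : S → Y → S} (hc : IsCocycle c) (hst : IsStableMono F c) {A : Type*} [CommGroup A]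
    (θ : S →* A) (s : S) (hs : (s : Ω) ∈ F.focalSubgroup) : ∏ y : Y, θ (c s y) = 1 := by
  let T : S →* A :=
    { toFun := fun s => ∏ y : Y, θ (c s y)
      map_one' := Finset.prod_eq_one fun y _ => by rw [hc.one, map_one]
      map_mul' := by
        intro a b
        show ∏ y : Y, θ (c (a * b) y) = (∏ y : Y, θ (c a y)) * ∏ y : Y, θ (c b y)
        have h1 : ∀ y : Y, θ (c (a * b) y) = θ (c a (b • y)) * θ (c b y) := fun y => by
          rw [hc, map_mul]
        rw [Finset.prod_congr rfl (fun y _ => h1 y), Finset.prod_mul_distrib]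
        congr 1
        exact Fintype.prod_equiv (MulAction.toPerm b) _ _ (fun y => rfl) }
  have hle : F.focalSubgroup ≤ T.ker.map S.subtype := by
    refine focal_le fun P φ hφ x => ?_
    have hx : (x : Ω) ∈ S := hom_le hφ x.2
    have hy : φ x ∈ S := hom_apply_mem hφ x
    refine ⟨(⟨x, hx⟩ : S)⁻¹ * ⟨φ x, hy⟩, ?_, rfl⟩
    show T _ = 1
    rw [map_mul, map_inv, inv_mul_eq_one]
    obtain ⟨e, d, hed⟩ := hst P φ hφ
    show ∏ y : Y, θ (c ⟨x, hx⟩ y) = ∏ y : Y, θ (c ⟨φ x, hy⟩ y)
    have h0 : ∏ y : Y, θ (c ⟨φ x, hy⟩ (e y)) = ∏ y : Y, θ (c ⟨φ x, hy⟩ y) :=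
      Fintype.prod_equiv e _ _ (fun y => rfl)
    rw [← h0]
    have h1 : ∀ y : Y, θ (c ⟨φ x, hy⟩ (e y)) =
        θ (d ((⟨x, hx⟩ : S) • y)) * θ (c ⟨x, hx⟩ y) * (θ (d y))⁻¹ := by
      intro y
      rw [(hed x ⟨x, hx⟩ ⟨φ x, hy⟩ rfl rfl y).2, map_mul, map_mul, map_inv]
    rw [Finset.prod_congr rfl (fun y _ => h1 y), Finset.prod_mul_distrib, Finset.prod_mul_distrib,
      Finset.prod_inv_distrib]
    have h2 : ∏ y : Y, θ (d ((⟨x, hx⟩ : S) • y)) = ∏ y : Y, θ (d y) :=
      Fintype.prod_equiv (MulAction.toPerm (⟨x, hx⟩ : S)) _ _ (fun y => rfl)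
    rw [h2, mul_right_comm, mul_inv_cancel, one_mul]
  obtain ⟨t, ht, hts⟩ := hle hs
  have h1 : t = s := Subtype.ext hts
  rw [h1] at ht
  exact ht

/-- `foc(F)` is strongly closed. -/
theorem focal_apply_mem {F : FusionSystem S} {P : Subgroup Ω} {φ : P →* Ω} (hφ : φ ∈ F.Hom P) (x : P)
    (hx : (x : Ω) ∈ F.focalSubgroup) : φ x ∈ F.focalSubgroup := by
  have h := F.focalSubgroup.mul_mem hx (focal_mem hφ x)
  rwa [mul_inv_cancel_left] at h

/-- **Yoshida's theorem for fusion systems**, from a characteristic monomial set. -/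
theorem yoshida_of_charMono {F H : FusionSystem S} {p : ℕ} [hp : Fact p.Prime] [Finite S]
    (hS : IsPGroup p S) (hF : F.IsSaturated p) (hH : H.IsSaturated p) (hle : H.IsSubsystemOf F)
    (hHS : F.Hom S ⊆ H.Hom S) {Y : Type*} [MulAction S Y] {c : S → Y → S} (hc : IsCharMono F p c)
    (hne : H.focalSubgroup ≠ F.focalSubgroup) :
    ∃ (W : Sylow p (Equiv.Perm (Fin (p ^ 2))))
      (f : ↥S →* ↥(W : Subgroup (Equiv.Perm (Fin (p ^ 2))))), Function.Surjective f := by
  classical
  by_contra hno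
  have hfinY := hc.fin
  have hft : Fintype Y := Fintype.ofFinite Y
  -- a homomorphism killing `Φ(S) foc(H)` and not `foc(F)`
  have h1 : ¬ F.focalSubgroup ≤ (frattini ↥S).map S.subtype ⊔ H.focalSubgroup := by
    intro h
    apply hne
    have h2 := tate_of_charMono hS hF hH hle hc h
    rw [focal_eq hS hF, focal_eq hS hH, h2]
  obtain ⟨y, hy, hyn⟩ := SetLike.not_le_iff_exists.1 h1
  have hyS : y ∈ S := focal_le_base F hy
  set L : Subgroup S := ((frattini ↥S).map S.subtype ⊔ H.focalSubgroup).subgroupOf S with hL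
  have hΦL : frattini ↥S ≤ L := by
    intro x hx
    rw [hL, Subgroup.mem_subgroupOf]
    exact Subgroup.mem_sup_left ⟨x, hx, rfl⟩
  obtain ⟨θ, hθL, hθy⟩ := exists_hom_zmod hS hΦL (y := ⟨y, hyS⟩) (by
    rw [hL, Subgroup.mem_subgroupOf]; exact hyn)
  have hθH : ∀ x : S, (x : Ω) ∈ H.focalSubgroup → θ x = 1 := fun x hx => hθL x (by
    rw [hL, Subgroup.mem_subgroupOf]
    exact Subgroup.mem_sup_right hx)
  -- an element of `foc(F)` of minimal order not in the kernel of `θ`
  have hex : ∃ n : ℕ, ∃ u : S, (u : Ω) ∈ F.focalSubgroup ∧ θ u ≠ 1 ∧ orderOf u = n :=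
    ⟨_, ⟨y, hyS⟩, hy, hθy, rfl⟩
  obtain ⟨u, huF, huθ, hun⟩ := Nat.find_spec hex
  have hmin : ∀ v : S, (v : Ω) ∈ F.focalSubgroup → orderOf v < orderOf u → θ v = 1 := by
    intro v hv hvu
    by_contra hne
    rw [hun] at hvu
    exact Nat.find_min hex hvu ⟨v, hv, hne, rfl⟩
  set κ : S → Y → Multiplicative (ZMod p) := fun s y => θ (c s y) with hκdef
  have hκ : ∀ g h y, κ (g * h) y = κ g (h • y) * κ h y := fun g h y => by
    show θ (c (g * h) y) = θ (c g (h • y)) * θ (c h y)
    rw [hc.cocycle, map_mul]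
  -- closed values
  have hclosed : ∀ z : Y, ∀ m, 0 < m → u • z ≠ z → u ^ m • z = z → κ (u ^ m) z = 1 := by
    intro z m hm huz hmz
    obtain ⟨P, φ, hφ, hP⟩ := hc.gen z
    obtain ⟨hmP, hcm⟩ := hP _ hmz
    apply hmin
    · rw [hcm]
      refine focal_apply_mem hφ _ ?_
      show ((u ^ m : S) : Ω) ∈ F.focalSubgroup
      rw [SubgroupClass.coe_pow]
      exact F.focalSubgroup.pow_mem huF m
    · -- the order drops
      have ho1 : orderOf (c (u ^ m) z) = orderOf (u ^ m) := by
        rw [← Subgroup.orderOf_coe, hcm, orderOf_injective φ (F.injective_of_mem hφ)]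
        rw [← Subgroup.orderOf_coe, ← Subgroup.orderOf_coe]
      rw [ho1]
      have hdvd : orderOf (u ^ m) ∣ orderOf u := orderOf_pow_dvd m
      refine lt_of_le_of_ne (Nat.le_of_dvd (orderOf_pos u) hdvd) fun heq => huz ?_
      -- then `u ^ m` generates `⟨u⟩`
      have h2 : u ∈ Subgroup.zpowers (u ^ m) := by
        have h3 : Subgroup.zpowers (u ^ m) ≤ Subgroup.zpowers u := by
          rw [Subgroup.zpowers_le]
          exact Subgroup.npow_mem_zpowers u m
        have h4 : Subgroup.zpowers (u ^ m) = Subgroup.zpowers u := by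
          apply Subgroup.eq_of_le_of_card_ge h3
          rw [Nat.card_zpowers, Nat.card_zpowers, heq]
        rw [h4]
        exact Subgroup.mem_zpowers u
      have h5 : Subgroup.zpowers (u ^ m) ≤ MulAction.stabilizer S z := by
        rw [Subgroup.zpowers_le]
        exact hmz
      exact h5 h2
  -- the transfer vanishes
  have hT : ∏ z : Y, κ u z = 1 := transfer_eq_one_of_mem_focal hc.cocycle hc.stable θ u huF
  -- nontrivial orbits
  have horb : ∀ x : Y, x ∉ MulAction.fixedPoints S Y →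
      ∏ z ∈ Finset.univ.filter (fun z => z ∈ MulAction.orbit S x), κ u z = 1 := by
    intro x hx
    by_contra hcon
    apply hno
    refine MonoOrbit.exists_surjective_of_orbit hS hκ x ?_ u (fun z _ m hm h2 h3 => hclosed z m hm h2 h3)
      _ (fun z => by simp) hcon
    rw [MulAction.mem_fixedPoints] at hx
    push Not at hx
    exact hx
  -- fixed points
  have hfix : ∀ z ∈ MulAction.fixedPoints S Y, κ u z = θ u := by
    intro z hz
    obtain ⟨P, φ, hφ, hP⟩ := hc.gen z
    have hSP : S ≤ P := fun s hs => (hP ⟨s, hs⟩ (hz ⟨s, hs⟩)).1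
    obtain ⟨huP, hcu⟩ := hP u (hz u)
    have h2 : φ.comp (Subgroup.inclusion hSP) ∈ H.Hom S := hHS (restrict_mem hφ hSP)
    have h3 : (u : Ω)⁻¹ * (φ.comp (Subgroup.inclusion hSP)) u ∈ H.focalSubgroup := focal_mem h2 u
    have h4 : ((u⁻¹ * c u z : S) : Ω) ∈ H.focalSubgroup := by
      show (u : Ω)⁻¹ * (c u z : Ω) ∈ H.focalSubgroup
      rw [hcu]
      exact h3
    have h5 := hθH _ h4
    rw [map_mul, map_inv, inv_mul_eq_one] at h5
    exact h5.symm
  -- the product over all of `Y`
  have hfixprod : ∏ z ∈ Finset.univ.filter (fun z => z ∈ MulAction.fixedPoints S Y), κ u z =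
      θ u ^ Nat.card (MulAction.fixedPoints S Y) := by
    rw [Finset.prod_congr rfl (fun z hz => hfix z (Finset.mem_filter.1 hz).2), Finset.prod_const]
    congr 1
    rw [Nat.card_eq_fintype_card, Fintype.card_subtype]
  have hnonfix : ∏ z ∈ Finset.univ.filter (fun z => z ∉ MulAction.fixedPoints S Y), κ u z = 1 := by
    rw [← Finset.prod_fiberwise_of_maps_to (s := Finset.univ.filter (fun z => z ∉ MulAction.fixedPoints S Y))
      (t := Finset.univ) (g := fun z => (Quotient.mk (MulAction.orbitRel S Y) z)) (fun _ _ => Finset.mem_univ _)]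
    refine Finset.prod_eq_one fun q _ => ?_
    rcases Finset.eq_empty_or_nonempty ((Finset.univ.filter (fun z => z ∉ MulAction.fixedPoints S Y)).filter
      (fun z => (Quotient.mk (MulAction.orbitRel S Y) z) = q)) with h0 | ⟨x, hx⟩
    · rw [h0, Finset.prod_empty]
    · rw [Finset.mem_filter, Finset.mem_filter] at hx
      obtain ⟨⟨-, hx1⟩, hx2⟩ := hx
      rw [← horb x hx1]
      refine Finset.prod_congr ?_ fun _ _ => rfl
      ext z
      rw [Finset.mem_filter, Finset.mem_filter, Finset.mem_filter, ← hx2]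
      constructor
      · rintro ⟨-, h⟩
        have h' : (MulAction.orbitRel S Y) z x := Quotient.exact h
        rw [MulAction.orbitRel_apply] at h'
        exact ⟨Finset.mem_univ _, h'⟩
      · rintro ⟨-, h⟩
        refine ⟨⟨Finset.mem_univ _, fun hz => hx1 ?_⟩, Quotient.sound ?_⟩
        · obtain ⟨g, hg⟩ := h
          have h2 : x = g⁻¹ • z := by rw [← hg]; simp
          rw [h2]
          have h3 : g⁻¹ • z = z := hz g⁻¹
          rw [h3]
          exact hz
        · show (MulAction.orbitRel S Y) z x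
          rw [MulAction.orbitRel_apply]
          exact h
  have hall : θ u ^ Nat.card (MulAction.fixedPoints S Y) = 1 := by
    rw [← hfixprod, ← hT, ← Finset.prod_filter_mul_prod_filter_not Finset.univ
      (fun z => z ∈ MulAction.fixedPoints S Y), hnonfix, mul_one]
  -- the number of fixed points is prime to `p`
  have hmod := hS.card_modEq_card_fixedPoints Y
  have hnd : ¬ p ∣ Nat.card (MulAction.fixedPoints S Y) := by
    intro h
    exact hc.card ((hmod.dvd_iff (dvd_refl p)).2 h)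
  have hord : orderOf (θ u) ∣ Nat.card (MulAction.fixedPoints S Y) := orderOf_dvd_of_pow_eq_one hall
  have hord2 : orderOf (θ u) = p := by
    refine orderOf_eq_prime ?_ huθ
    have : (θ u) ^ Nat.card (Multiplicative (ZMod p)) = 1 := pow_card_eq_one'
    rwa [show Nat.card (Multiplicative (ZMod p)) = p from Nat.card_zmod p] at this
  rw [hord2] at hord
  exact hnd hord

/-- **Yoshida's theorem for fusion systems.** -/
theorem yoshida {F H : FusionSystem S} {p : ℕ} [hp : Fact p.Prime] [Finite S]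
    (hS : IsPGroup p S) (hF : F.IsSaturated p) (hH : H.IsSaturated p) (hle : H.IsSubsystemOf F)
    (hHS : F.Hom S ⊆ H.Hom S) (hne : H.focalSubgroup ≠ F.focalSubgroup) :
    ∃ (W : Sylow p (Equiv.Perm (Fin (p ^ 2))))
      (f : ↥S →* ↥(W : Subgroup (Equiv.Perm (Fin (p ^ 2))))), Function.Surjective f := by
  obtain ⟨Y, _, c, hc⟩ := exists_charMono hS hF
  exact yoshida_of_charMono hS hF hH hle hHS hc hne

end Cfsg.Agent.H747
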