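import Cfsg.Prelude.Def_FusionSystem
import Cfsg.Agent.H759.FusBasic
import Cfsg.Agent.H802.FusSat
import Cfsg.Agent.Transfer.Residual

/-!
# The focal and the hyperfocal subgroup of a fusion system (helper747)

* `hyperfocal_mem_of_coprime`, `hyperfocal_le`: `hyp(F)` is generated by the `x⁻¹ α(x)`, `α ∈ Aut_F(P)` of order
  prime to `p`.
* `hyperfocal_map`: `hyp(F)` is invariant under `Aut_F(S)`, in particular normalised by `S`.
* `exists_mul_mem_residual`: `Aut_F(Q) = O^p(Aut_F(Q)) Aut_S(Q)` for `Q` fully automized.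
* `focal_induction`: a normal subgroup `H` of `S` with `[S, S] ≤ H` and `hyp(F) ≤ H` contains `foc(F)`.
* `focal_eq`: `foc(F) = hyp(F) [S, S]` for saturated `F`.
-/

set_option autoImplicit false

namespace Cfsg.Agent.H747

open scoped commutatorElement
open Cfsg Cfsg.FusionSystem Cfsg.Agent.H802

variable {Ω : Type*} [Group Ω] {S : Subgroup Ω}

theorem focal_mem {F : FusionSystem S} {P : Subgroup Ω} {φ : P →* Ω} (h : φ ∈ F.Hom P) (x : P) :
    (x : Ω)⁻¹ * φ x ∈ F.focalSubgroup := Subgroup.subset_closure ⟨P, φ, x, h, rfl⟩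

theorem focal_le {F : FusionSystem S} {H : Subgroup Ω}
    (h : ∀ (P : Subgroup Ω) (φ : P →* Ω), φ ∈ F.Hom P → ∀ x : P, (x : Ω)⁻¹ * φ x ∈ H) :
    F.focalSubgroup ≤ H := by
  refine (Subgroup.closure_le H).2 ?_
  rintro _ ⟨P, φ, x, hφ, rfl⟩
  exact h P φ hφ x

theorem focal_le_base (F : FusionSystem S) : F.focalSubgroup ≤ S :=
  focal_le fun _ _ h x => S.mul_mem (S.inv_mem (hom_le h x.2)) (hom_apply_mem h x)

theorem hyperfocal_mem {F : FusionSystem S} {p : ℕ} {P : Subgroup Ω} (hP : P ≤ S)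
    {α : F.autGroup P} (hα : α ∈ pResidual p (F.autGroup P)) (x : P) :
    (x : Ω)⁻¹ * ((α : MulAut P) x : P) ∈ F.hyperfocalSubgroup p :=
  Subgroup.subset_closure ⟨P, α, x, hP, hα, rfl⟩

theorem hyperfocal_mem_of_coprime {F : FusionSystem S} {p : ℕ} {P : Subgroup Ω} (hP : P ≤ S)
    {α : MulAut P} (hα : α ∈ F.autGroup P) (ho : (orderOf α).Coprime p) (x : P) :
    (x : Ω)⁻¹ * (α x : P) ∈ F.hyperfocalSubgroup p :=
  hyperfocal_mem (α := ⟨α, hα⟩) hP (Subgroup.subset_closure (by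
    show (orderOf (⟨α, hα⟩ : F.autGroup P)).Coprime p
    rwa [Subgroup.orderOf_mk])) x

theorem hyperfocal_le {F : FusionSystem S} {p : ℕ} {H : Subgroup Ω}
    (h : ∀ (P : Subgroup Ω), P ≤ S → ∀ α ∈ F.autGroup P, (orderOf α).Coprime p →
      ∀ x : P, (x : Ω)⁻¹ * (α x : P) ∈ H) :
    F.hyperfocalSubgroup p ≤ H := by
  refine (Subgroup.closure_le H).2 ?_
  rintro _ ⟨P, α, x, hP, hα, rfl⟩
  have key : ∀ x : P, (x : Ω)⁻¹ * ((α : MulAut P) x : P) ∈ H := by
    refine Subgroup.closure_induction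
      (p := fun (α : F.autGroup P) _ => ∀ x : P, (x : Ω)⁻¹ * ((α : MulAut P) x : P) ∈ H)
      ?_ ?_ ?_ ?_ hα
    · intro β hβ x
      refine h P hP β β.2 ?_ x
      have : (orderOf β).Coprime p := hβ
      rwa [← Subgroup.orderOf_coe] at this
    · intro x
      simp
    · intro a b _ _ ha hb x
      have h1 := H.mul_mem (hb x) (ha ((b : MulAut P) x))
      have h2 : (x : Ω)⁻¹ * (((b : MulAut P) x : P) : Ω) *
          ((((b : MulAut P) x : P) : Ω)⁻¹ * ((a : MulAut P) ((b : MulAut P) x) : P)) =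
          (x : Ω)⁻¹ * ((a : MulAut P) ((b : MulAut P) x) : P) := by group
      rw [h2] at h1
      exact h1
    · intro a _ ha x
      have h1 := H.inv_mem (ha ((a : MulAut P)⁻¹ x))
      have h2 : (a : MulAut P) ((a : MulAut P)⁻¹ x) = x := by
        show ((a : MulAut P) * (a : MulAut P)⁻¹) x = x
        simp
      rw [h2] at h1
      have h3 : (((((a : MulAut P)⁻¹ x : P) : Ω))⁻¹ * (x : Ω))⁻¹ =
          (x : Ω)⁻¹ * (((a : MulAut P)⁻¹ x : P) : Ω) := by group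
      rw [h3] at h1
      exact h1
  exact key x

theorem hyperfocal_le_focal (F : FusionSystem S) (p : ℕ) :
    F.hyperfocalSubgroup p ≤ F.focalSubgroup :=
  hyperfocal_le fun _ hP α hα _ x => focal_mem ((mem_autGroup_iff F hP α).1 hα) x

theorem hyperfocal_le_base (F : FusionSystem S) (p : ℕ) : F.hyperfocalSubgroup p ≤ S :=
  (hyperfocal_le_focal F p).trans (focal_le_base F)

/-- `hyp(F)` is invariant under the maps of the system with source `S`. -/
theorem hyperfocal_apply_mem {F : FusionSystem S} {p : ℕ} {φ : S →* Ω} (hφ : φ ∈ F.Hom S)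
    (y : S) (hy : (y : Ω) ∈ F.hyperfocalSubgroup p) : φ y ∈ F.hyperfocalSubgroup p := by
  have hle : F.hyperfocalSubgroup p ≤ ((F.hyperfocalSubgroup p).comap φ).map S.subtype := by
    refine hyperfocal_le fun P hP α hα ho x => ?_
    set ψ : P →* Ω := φ.comp (Subgroup.inclusion hP) with hψ
    have hψF : ψ ∈ F.Hom P := restrict_mem hφ hP
    have hQ : ψ.range ≤ S := range_le_of_mem hψF
    have h1 := congr_mem_autGroup hψF rfl hα
    have h2 : (orderOf (MulAut.congr (isoOf ψ (F.injective_of_mem hψF) rfl) α)).Coprime p := by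
      rwa [MulEquiv.orderOf_eq]
    have h3 := hyperfocal_mem_of_coprime hQ h1 h2 (isoOf ψ (F.injective_of_mem hψF) rfl x)
    refine ⟨⟨(x : Ω)⁻¹ * (α x : P), S.mul_mem (S.inv_mem (hP x.2)) (hP (α x).2)⟩, ?_, rfl⟩
    show φ _ ∈ F.hyperfocalSubgroup p
    have h4 : (⟨(x : Ω)⁻¹ * (α x : P), S.mul_mem (S.inv_mem (hP x.2)) (hP (α x).2)⟩ : S) =
        (Subgroup.inclusion hP x)⁻¹ * Subgroup.inclusion hP (α x) := Subtype.ext rfl
    have h5 : ((MulAut.congr (isoOf ψ (F.injective_of_mem hψF) rfl) α)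
        (isoOf ψ (F.injective_of_mem hψF) rfl x) : Ω) = φ (Subgroup.inclusion hP (α x)) := by
      show ((isoOf ψ (F.injective_of_mem hψF) rfl (α ((isoOf ψ (F.injective_of_mem hψF) rfl).symm
        (isoOf ψ (F.injective_of_mem hψF) rfl x))) : ψ.range) : Ω) = _
      rw [MulEquiv.symm_apply_apply]
      rfl
    rw [h5] at h3
    rw [h4, map_mul, map_inv]
    exact h3
  obtain ⟨z, hz, hzy⟩ := hle hy
  have : z = y := Subtype.ext hzy
  rw [← this]
  exact hz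

/-- `S` normalises `hyp(F)`. -/
theorem le_normalizer_hyperfocal (F : FusionSystem S) (p : ℕ) :
    S ≤ Subgroup.normalizer (F.hyperfocalSubgroup p : Set Ω) := by
  have h1 : ∀ s ∈ S, ∀ y ∈ F.hyperfocalSubgroup p, s * y * s⁻¹ ∈ F.hyperfocalSubgroup p :=
    fun s hs y hy => hyperfocal_apply_mem (F.conj_mem le_rfl hs)
      ⟨y, hyperfocal_le_base F p hy⟩ hy
  intro s hs
  rw [Subgroup.mem_normalizer_iff]
  intro y
  refine ⟨h1 s hs y, fun h => ?_⟩
  have h2 := h1 s⁻¹ (S.inv_mem hs) _ h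
  have h3 : s⁻¹ * (s * y * s⁻¹) * s⁻¹⁻¹ = y := by group
  rwa [h3] at h2

/-- `Aut_F(Q) = O^p(Aut_F(Q)) Aut_S(Q)` for `Q` fully automized. -/
theorem exists_mul_mem_residual {F : FusionSystem S} {p : ℕ} [Fact p.Prime] [Finite S] {Q : Subgroup Ω}
    (hQ : F.IsFullyAutomized p Q) {α : MulAut Q} (hα : α ∈ F.autGroup Q) :
    ∃ β : F.autGroup Q, β ∈ pResidual p (F.autGroup Q) ∧ ∃ γ ∈ autInducedBy S Q, α = β * γ := by
  obtain ⟨hQS, R, hR⟩ := hQ
  have : Finite Q := finite_of_le hQS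
  have : Finite (MulAut Q) := inferInstance
  have hn : (pResidual p (F.autGroup Q)).Normal := Cfsg.Agent.Transfer.Residual.pResidual_normal p
  have h1 : (⟨α, hα⟩ : F.autGroup Q) ∈ pResidual p (F.autGroup Q) ⊔ (R : Subgroup (F.autGroup Q)) := by
    rw [Cfsg.Agent.Transfer.Residual.pResidual_sup_sylow]
    exact Subgroup.mem_top _
  obtain ⟨β, hβ, γ, hγ, h⟩ := Subgroup.mem_sup_of_normal_left.1 h1
  rw [hR, Subgroup.mem_subgroupOf] at hγ
  exact ⟨β, hβ, γ, hγ, (congrArg Subtype.val h).symm⟩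

/-- For saturated `F`, a subgroup containing `[S, S]` and `hyp(F)` contains the focal subgroup. -/
theorem focal_le_of_saturated {F : FusionSystem S} {p : ℕ} [Fact p.Prime] [Finite S]
    (hS : IsPGroup p S) (hF : F.IsSaturated p) {H : Subgroup Ω}
    (h1 : ⁅(S : Subgroup Ω), (S : Subgroup Ω)⁆ ≤ H) (h2 : F.hyperfocalSubgroup p ≤ H) :
    F.focalSubgroup ≤ H := by
  refine focal_le fun P φ hφ => ?_
  refine Cfsg.Agent.H759.saturated_induction F hS hF (fun P φ => ∀ x : P, (x : Ω)⁻¹ * φ x ∈ H)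
    ?_ ?_ ?_ ?_ P φ hφ
  · intro P R φ χ _ hM h he x
    rw [he x]
    exact hM ⟨x, h x.2⟩
  · intro P Q φ ψ χ _ _ hM hN he x
    obtain ⟨h, hx⟩ := he x
    rw [hx]
    have h3 := H.mul_mem (hM x) (hN ⟨φ x, h⟩)
    have h4 : (x : Ω)⁻¹ * φ x * ((φ x)⁻¹ * ψ ⟨φ x, h⟩) = (x : Ω)⁻¹ * ψ ⟨φ x, h⟩ := by group
    rwa [h4] at h3
  · intro P R φ χ _ hM _ he y
    obtain ⟨x, hx, hy⟩ := he y
    have h3 := H.inv_mem (hM x)
    rw [hy, ← hx]
    have h4 : ((x : Ω)⁻¹ * φ x)⁻¹ = (φ x)⁻¹ * x := by group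
    rwa [h4] at h3
  · intro Q hQ _ _ α hα x
    obtain ⟨β, hβ, γ, hγ, rfl⟩ := exists_mul_mem_residual hQ hα
    obtain ⟨g, hg, hge⟩ := (mem_autInducedBy_iff S Q γ).1 hγ
    have h3 : (x : Ω)⁻¹ * (γ x : Q) ∈ H := by
      rw [hge x]
      have h4 : (x : Ω)⁻¹ * (g * (x : Ω) * g⁻¹) = ⁅(x : Ω)⁻¹, g⁆ := by
        rw [commutatorElement_def]
        group
      rw [h4]
      exact h1 (Subgroup.commutator_mem_commutator (S.inv_mem (hQ.1 x.2)) hg)
    have h5 := H.mul_mem h3 (h2 (hyperfocal_mem hQ.1 hβ (γ x)))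
    have h6 : (x : Ω)⁻¹ * (γ x : Q) * (((γ x : Q) : Ω)⁻¹ * ((β : MulAut Q) (γ x) : Q)) =
        (x : Ω)⁻¹ * ((β : MulAut Q) (γ x) : Q) := by group
    rw [h6] at h5
    exact h5

theorem commutator_le_focal (F : FusionSystem S) :
    ⁅(S : Subgroup Ω), (S : Subgroup Ω)⁆ ≤ F.focalSubgroup := by
  rw [Subgroup.commutator_le]
  intro a ha b hb
  have h := focal_mem (F.conj_mem (P := S) (g := b) le_rfl hb) ⟨a⁻¹, S.inv_mem ha⟩
  have h2 : ((⟨a⁻¹, S.inv_mem ha⟩ : S) : Ω)⁻¹ * conjHom S b ⟨a⁻¹, S.inv_mem ha⟩ = ⁅a, b⁆ := by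
    show a⁻¹⁻¹ * (b * a⁻¹ * b⁻¹) = a * b * a⁻¹ * b⁻¹
    group
  rwa [h2] at h

/-- `foc(F) = hyp(F) [S, S]`. -/
theorem focal_eq {F : FusionSystem S} {p : ℕ} [Fact p.Prime] [Finite S]
    (hS : IsPGroup p S) (hF : F.IsSaturated p) :
    F.focalSubgroup = F.hyperfocalSubgroup p ⊔ ⁅(S : Subgroup Ω), (S : Subgroup Ω)⁆ :=
  le_antisymm (focal_le_of_saturated hS hF le_sup_right le_sup_left)
    (sup_le (hyperfocal_le_focal F p) (commutator_le_focal F))

end Cfsg.Agent.H747
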