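import Cfsg.Agent.H747.RowTwo
import Cfsg.Agent.H763.PowerAut
import Cfsg.Agent.H802.FusAlp
import Cfsg.Agent.ClosedTwo.Row
import Cfsg.Agent.H799.Glue

/-!
# S5161: normal subsystems of the 2-fusion system of a central extension of a row (helper747)

`eq_or_le_center` : `K` perfect, `Z(K)` a 2-group, `K/Z(K)` an `OddRow` all of whose strongly closed 2-subgroups are
trivial or Sylow: a normal subsystem of `F_T(K)` is over a subgroup of `Z(K)` or is `F_T(K)`.
-/

set_option autoImplicit false

namespace Cfsg.Agent.H747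

open Subgroup Cfsg Cfsg.FusionSystem Cfsg.Agent.H802 Cfsg.Agent.H763
open scoped commutatorElement

variable {G : Type*} [Group G]

theorem full_Nn [Finite G] (S : Sylow 2 G) {E : FusionSystem (S : Subgroup G)}
    (hEs : E.IsSaturated 2) (hE : E.IsInvariantIn (groupFusionSystem (S : Subgroup G))) :
    Full (S : Subgroup G) (Nn E (le_refl (S : Subgroup G))) := by
  have hp : Fact (Nat.Prime 2) := ⟨Nat.prime_two⟩
  have hsat := groupFusionSystem_isSaturated S
  refine ⟨fun s hs => mem_Nn_of_mem _ hs (Subgroup.le_normalizer hs), fun c hc => ?_,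
    fun R hR hSR hC g hg hg2 => ?_⟩
  · refine ⟨Subgroup.centralizer_le_normalizer _ hc, ?_⟩
    refine mem_of_apply_eq (subtype_mem E le_rfl) fun x => ?_
    show c * x * c⁻¹ = x
    rw [← mem_centralizer_iff.1 hc x x.2]
    group
  · have hn : (groupFusionSystem (S : Subgroup G)).IsFullyNormalized R := by
      refine ⟨hR, fun Q _ => ?_⟩
      have h1 : normalizerIn (S : Subgroup G) R = (S : Subgroup G) := inf_eq_left.2 hSR
      rw [h1]
      exact Nat.card_mono (Set.toFinite _) inf_le_left
    have hRa := isFullyAutomized_of_isFullyNormalized S.2 hsat hn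
    have hRc : (groupFusionSystem (S : Subgroup G)).IsCentric R :=
      isCentric_of_isFullyCentralized (isFullyCentralized_of_isFullyNormalized S.2 hsat hn) hC
    have h2 : twoGen R ≤ Nn E hRa.1 := by
      refine (Subgroup.closure_le _).2 ?_
      rintro x ⟨hx, k, hk⟩
      exact mem_Nn_of_orderOf hE hRa hx hk
    have h3 := h2 hg2
    refine ⟨hg, mem_of_restrict_centric S.2 hsat hEs hE.1 hRc hRa.1 ?_ ?_⟩
    · exact conjHom_mem_group (S := (S : Subgroup G)) le_rfl fun x hx =>
        (Subgroup.mem_normalizer_iff.1 hg x).1 hx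
    · exact mem_of_apply_eq h3.2 fun x => rfl

theorem hom_eq_of_full [Finite G] (S : Sylow 2 G)
    (hS : ∀ H : Subgroup G, Full (S : Subgroup G) H → normalizer ((S : Subgroup G) : Set G) ≤ H)
    {E : FusionSystem (S : Subgroup G)}
    (hEs : E.IsSaturated 2) (hE : E.IsInvariantIn (groupFusionSystem (S : Subgroup G))) (P : Subgroup G) :
    E.Hom P = (groupFusionSystem (S : Subgroup G)).Hom P := by
  refine H763.hom_eq_of_autGroup_le hE ?_ P
  have key := hS _ (full_Nn S hEs hE)
  intro α hα
  have h1 := (mem_autGroup_iff _ le_rfl α).1 hα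
  obtain ⟨-, -, g, hg⟩ := h1
  have hg' : ∀ x : (S : Subgroup G), ((α x : (S : Subgroup G)) : G) = g * x * g⁻¹ := hg
  have h2 := key (mem_normalizer_of_aut hg')
  exact (mem_autGroup_iff _ le_rfl α).2 (mem_of_apply_eq h2.2 hg')

/-- `OddRow` for every Sylow 2-subgroup. -/
theorem OddRow.all [Finite G] (h : OddRow G) (S : Sylow 2 G) :
    ∀ H : Subgroup G, Full (S : Subgroup G) H → normalizer ((S : Subgroup G) : Set G) ≤ H := by
  have hp : Fact (Nat.Prime 2) := ⟨Nat.prime_two⟩
  obtain ⟨T, hT⟩ := h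
  obtain ⟨g, hg⟩ := MulAction.exists_smul_eq G T S
  have hST : (S : Subgroup G) = (T : Subgroup G).map (MulAut.conj g).toMonoidHom := by
    rw [← hg]; rfl
  intro H hH
  have key : Full (T : Subgroup G) (H.comap (MulAut.conj g).toMonoidHom) := by
    rw [hST] at hH
    obtain ⟨h1, h2, h3⟩ := hH
    refine ⟨fun x hx => h1 ⟨x, hx, rfl⟩, fun x hx => h2 ?_, fun R hR hTR hC y hy hy2 => ?_⟩
    · rw [centralizer_map_equiv]
      exact ⟨x, hx, rfl⟩
    · refine h3 (R.map (MulAut.conj g).toMonoidHom) (Subgroup.map_mono hR) ?_ ?_ (MulAut.conj g y) ?_ ?_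
      · rw [normalizer_map_equiv]
        exact Subgroup.map_mono hTR
      · rw [centralizer_map_equiv]
        rintro z ⟨hz1, hz2⟩
        obtain ⟨x, rfl⟩ := (MulAut.conj g).surjective z
        exact (mem_map_equiv' _ _ x).2 (hC ⟨(mem_map_equiv' _ _ x).1 hz1, (mem_map_equiv' _ _ x).1 hz2⟩)
      · rw [normalizer_map_equiv]
        exact (mem_map_equiv' _ _ y).2 hy
      · rw [twoGen_map]
        exact (mem_map_equiv' _ _ y).2 hy2
  have h5 := hT _ key
  rw [hST, normalizer_map_equiv]
  rintro y ⟨x, hx, rfl⟩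
  exact h5 hx

section Quot

variable {K : Type*} [Group K] [Finite K]

/-- the central 2-group `Z` lies in every Sylow 2-subgroup -/
theorem center_le_sylow (hZ : IsPGroup 2 (center K)) (T : Sylow 2 K) : center K ≤ (T : Subgroup K) := by
  have hp : Fact (Nat.Prime 2) := ⟨Nat.prime_two⟩
  obtain ⟨Q, hQ⟩ := hZ.exists_le_sylow
  obtain ⟨g, hg⟩ := MulAction.exists_smul_eq K Q T
  intro z hz
  have h1 : z = g * z * g⁻¹ := by
    rw [mem_center_iff.1 hz g]; group
  rw [← hg, h1]
  exact ⟨z, hQ hz, rfl⟩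

theorem exists_sylow_quot (T : Sylow 2 K) :
    ∃ T' : Sylow 2 (K ⧸ center K), (T' : Subgroup (K ⧸ center K)) = (T : Subgroup K).map (QuotientGroup.mk' (center K)) :=
  ⟨T.mapSurjective (QuotientGroup.mk'_surjective (center K)), rfl⟩

omit [Finite K] in
theorem mem_map_mk_iff {T : Subgroup K} (hZT : center K ≤ T) {x : K} :
    QuotientGroup.mk' (center K) x ∈ T.map (QuotientGroup.mk' (center K)) ↔ x ∈ T := by
  constructor
  · rintro ⟨y, hy, he⟩
    have h1 : y⁻¹ * x ∈ center K := QuotientGroup.eq.1 he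
    have h2 := mul_mem hy (hZT h1)
    rwa [mul_inv_cancel_left] at h2
  · exact fun h => ⟨x, h, rfl⟩

/-- The row lifts to a central extension by a `2`-group. -/
theorem full_of_quot (hZ : IsPGroup 2 (center K)) (h : OddRow (K ⧸ center K)) (T : Sylow 2 K) :
    ∀ H : Subgroup K, Full (T : Subgroup K) H → normalizer ((T : Subgroup K) : Set K) ≤ H := by
  intro H hH
  have hp : Fact (Nat.Prime 2) := ⟨Nat.prime_two⟩
  obtain ⟨π, hπ⟩ : ∃ π : K →* K ⧸ center K, π = QuotientGroup.mk' (center K) := ⟨_, rfl⟩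
  have hπs : Function.Surjective π := by rw [hπ]; exact QuotientGroup.mk'_surjective _
  obtain ⟨T', hT'⟩ := exists_sylow_quot T
  have hZT := center_le_sylow hZ T
  have hZH : center K ≤ H := hZT.trans hH.1
  have memT : ∀ x : K, π x ∈ (T' : Subgroup (K ⧸ center K)) ↔ x ∈ (T : Subgroup K) := fun x => by
    rw [hT', hπ]; exact mem_map_mk_iff hZT
  have memH : ∀ x : K, π x ∈ H.map π ↔ x ∈ H := fun x => by
    rw [hπ]; exact mem_map_mk_iff hZH
  have hker : ∀ x y : K, π x = π y → ∃ z ∈ center K, y = x * z := by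
    intro x y hxy
    rw [hπ] at hxy
    exact ⟨x⁻¹ * y, QuotientGroup.eq.1 hxy, by group⟩
  have normT : ∀ x : K, π x ∈ normalizer ((T' : Subgroup (K ⧸ center K)) : Set (K ⧸ center K)) ↔
      x ∈ normalizer ((T : Subgroup K) : Set K) := by
    intro x
    rw [mem_normalizer_iff, mem_normalizer_iff]
    constructor
    · intro hx y
      have := hx (π y)
      rw [← map_mul, ← map_inv, ← map_mul] at this
      rw [← memT y, ← memT (x * y * x⁻¹)]
      exact this
    · intro hx y
      obtain ⟨y, rfl⟩ := hπs y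
      rw [← map_mul, ← map_inv, ← map_mul]
      have := hx y
      rw [← memT y, ← memT (x * y * x⁻¹)] at this
      exact this
  have zpow : ∀ z ∈ center K, ∃ k : ℕ, z ^ 2 ^ k = 1 := fun z hz => by
    obtain ⟨k, hk⟩ := hZ ⟨z, hz⟩
    exact ⟨k, congrArg Subtype.val hk⟩
  have key : Full (T' : Subgroup (K ⧸ center K)) (H.map π) := by
    refine ⟨?_, ?_, ?_⟩
    · intro x hx
      obtain ⟨x, rfl⟩ := hπs x
      exact ⟨x, hH.1 ((memT x).1 hx), rfl⟩
    · intro x hx
      obtain ⟨x, rfl⟩ := hπs x
      have hxN : x ∈ normalizer ((T : Subgroup K) : Set K) :=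
        (normT x).1 (Subgroup.centralizer_le_normalizer _ hx)
      rw [memH]
      obtain ⟨a, b, k, m, h1, h2, h3, h4⟩ := exists_two_odd x
      rw [h4]
      refine mul_mem (hH.1 (mem_of_two_pow T (zpow_mem hxN a) h1)) (hH.2.1 ?_)
      rw [mem_centralizer_iff]
      intro t ht
      have hb : π (x ^ b) ∈ centralizer ((T' : Subgroup (K ⧸ center K)) : Set (K ⧸ center K)) := by
        rw [map_zpow]; exact zpow_mem hx b
      have h5 := mem_centralizer_iff.1 hb (π t) ((memT t).2 ht)
      rw [← map_mul, ← map_mul] at h5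
      obtain ⟨z, hz, he⟩ := hker _ _ h5
      -- `x^b t = t x^b z`
      have h6 : ∀ n : ℕ, (x ^ b) ^ n * t = t * (x ^ b) ^ n * z ^ n := by
        intro n
        induction n with
        | zero => simp
        | succ n ih =>
          have hzc := mem_center_iff.1 hz
          have hzn : ∀ g : K, g * z ^ n = z ^ n * g := fun g =>
            mem_center_iff.1 (pow_mem hz n) g
          calc (x ^ b) ^ (n + 1) * t = (x ^ b) ^ n * (x ^ b * t) := by rw [pow_succ]; group
            _ = (x ^ b) ^ n * (t * x ^ b * z) := by rw [he]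
            _ = ((x ^ b) ^ n * t) * (x ^ b * z) := by group
            _ = (t * (x ^ b) ^ n * z ^ n) * (x ^ b * z) := by rw [ih]
            _ = t * (x ^ b) ^ n * (z ^ n * x ^ b) * z := by group
            _ = t * (x ^ b) ^ n * (x ^ b * z ^ n) * z := by rw [hzn]
            _ = t * (x ^ b) ^ (n + 1) * z ^ (n + 1) := by rw [pow_succ, pow_succ]; group
      have h7 := h6 m
      rw [h3, one_mul, mul_one] at h7
      have h8 : z ^ m = 1 := by
        have : t * z ^ m = t * 1 := by rw [← h7, mul_one]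
        exact mul_left_cancel this
      obtain ⟨k', hk'⟩ := zpow z hz
      have h9 : z = 1 := by
        have hc : Nat.Coprime m (2 ^ k') := Nat.Coprime.pow_right k' (Nat.coprime_two_right.2 h2)
        have h10 := (Nat.Coprime.eq_one_of_dvd (Nat.Coprime.coprime_dvd_left
          (orderOf_dvd_of_pow_eq_one h8) hc) (orderOf_dvd_of_pow_eq_one hk'))
        exact orderOf_eq_one_iff.1 h10
      rw [he, h9, mul_one]
    · intro R hR hTR hC g hg hg2
      obtain ⟨g, rfl⟩ := hπs g
      rw [memH]
      have hgN := (normT g).1 hg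
      have hZR : center K ≤ R.comap π := by
        intro z hz
        have : π z = 1 := by rw [hπ]; exact (QuotientGroup.eq_one_iff z).2 hz
        show π z ∈ R
        rw [this]; exact one_mem _
      have memR : ∀ x : K, π x ∈ R ↔ x ∈ R.comap π := fun x => Iff.rfl
      have normR : ∀ x : K, π x ∈ normalizer (R : Set (K ⧸ center K)) ↔
          x ∈ normalizer ((R.comap π : Subgroup K) : Set K) := by
        intro x
        rw [mem_normalizer_iff, mem_normalizer_iff]
        constructor
        · intro hx y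
          have := hx (π y)
          rw [← map_mul, ← map_inv, ← map_mul] at this
          exact this
        · intro hx y
          obtain ⟨y, rfl⟩ := hπs y
          rw [← map_mul, ← map_inv, ← map_mul]
          exact hx y
      refine hH.2.2 (R.comap π) ?_ ?_ ?_ g hgN ?_
      · intro x hx
        exact (memT x).1 (hR hx)
      · intro x hx
        exact (normR x).1 (hTR ((memT x).2 hx))
      · rintro x ⟨hx1, hx2⟩
        refine hC ⟨(memT x).2 hx1, mem_centralizer_iff.2 fun y hy => ?_⟩
        obtain ⟨y, rfl⟩ := hπs y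
        rw [← map_mul, ← map_mul, mem_centralizer_iff.1 hx2 y hy]
      · have h1 : twoGen R ≤ (twoGen (R.comap π)).map π := by
          refine (Subgroup.closure_le _).2 ?_
          rintro x ⟨hx, k, hk⟩
          obtain ⟨x, rfl⟩ := hπs x
          refine ⟨x, Subgroup.subset_closure ⟨(normR x).1 hx, ?_⟩, rfl⟩
          rw [← map_pow] at hk
          have h2 : x ^ 2 ^ k ∈ center K := by
            rw [hπ] at hk
            exact (QuotientGroup.eq_one_iff _).1 hk
          obtain ⟨k', hk'⟩ := zpow _ h2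
          exact ⟨k + k', by rw [pow_add, pow_mul, hk']⟩
        obtain ⟨g', hg', he⟩ := h1 hg2
        obtain ⟨z, hz, hzz⟩ := hker _ _ he
        rw [hzz]
        refine mul_mem hg' (Subgroup.subset_closure ⟨?_, zpow z hz⟩)
        exact Subgroup.le_normalizer (hZR hz)
  have h5 := h.all T' _ key
  intro n hn
  exact (memH n).1 (h5 ((normT n).2 hn))

/-- **Normal subsystems of the 2-fusion system of a quasisimple group.** -/
theorem eq_or_le_center (hK : commutator K = ⊤) (hZ : IsPGroup 2 (center K))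
    (hcl : Cfsg.Agent.ClosedTwo.ClosedRow (K ⧸ center K)) (h : OddRow (K ⧸ center K)) (T : Sylow 2 K)
    {U : Subgroup K} {E : FusionSystem U} (hE : E.IsNormalIn (groupFusionSystem (T : Subgroup K)) 2) :
    U ≤ center K ∨ (U = (T : Subgroup K) ∧ ∀ P : Subgroup K, E.Hom P = (groupFusionSystem (T : Subgroup K)).Hom P) := by
  have hp : Fact (Nat.Prime 2) := ⟨Nat.prime_two⟩
  have hU := H799.isStronglyClosed_of hE.1.2.2.2.1
  obtain ⟨T', hT'⟩ := exists_sylow_quot T
  have hZT := center_le_sylow hZ T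
  have memT : ∀ x : K, QuotientGroup.mk' (center K) x ∈ (T' : Subgroup (K ⧸ center K)) ↔ x ∈ (T : Subgroup K) :=
    fun x => by rw [hT']; exact mem_map_mk_iff hZT
  have hU' : IsStronglyClosed (U.map (QuotientGroup.mk' (center K))) (T' : Subgroup (K ⧸ center K)) := by
    refine ⟨?_, ?_⟩
    · rintro _ ⟨x, hx, rfl⟩
      exact (memT x).2 (hU.1 hx)
    · rintro _ ⟨x, hx, rfl⟩ g hg
      obtain ⟨g, rfl⟩ := QuotientGroup.mk'_surjective _ g
      rw [← map_mul, ← map_inv, ← map_mul] at hg ⊢
      exact ⟨_, hU.2 x hx g ((memT _).1 hg), rfl⟩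
  rcases hcl T' _ hU' with h1 | h1
  · left
    intro x hx
    have h2 : QuotientGroup.mk' (center K) x ∈ U.map (QuotientGroup.mk' (center K)) := ⟨x, hx, rfl⟩
    rw [h1, Subgroup.mem_bot] at h2
    exact (QuotientGroup.eq_one_iff x).1 h2
  · right
    have hUT : U = (T : Subgroup K) := by
      refine le_antisymm hU.1 ?_
      have h2 := Subgroup.commutator_inf_eq_focalSubgroup T
      rw [hK, top_inf_eq] at h2
      rw [h2, Subgroup.focalSubgroup_def, Subgroup.closure_le]
      rintro g ⟨hg, x, hx, u, rfl⟩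
      have h3 : QuotientGroup.mk' (center K) x ∈ U.map (QuotientGroup.mk' (center K)) := by
        rw [h1]; exact (memT x).2 hx
      obtain ⟨t, ht, he⟩ := h3
      have h4 : t⁻¹ * x ∈ center K := QuotientGroup.eq.1 he
      obtain ⟨z, hz, hxz⟩ : ∃ z ∈ center K, x = t * z := ⟨_, h4, by group⟩
      have hzc := mem_center_iff.1 hz
      have h5 : x * u * x⁻¹ * u⁻¹ = t * (u * t⁻¹ * u⁻¹) := by
        rw [hxz, mul_inv_rev]
        calc t * z * u * (z⁻¹ * t⁻¹) * u⁻¹ = t * (z * u) * z⁻¹ * t⁻¹ * u⁻¹ := by group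
          _ = t * (u * z) * z⁻¹ * t⁻¹ * u⁻¹ := by rw [hzc u]
          _ = t * (u * t⁻¹ * u⁻¹) := by group
      rw [commutatorElement_def, h5] at hg
      rw [SetLike.mem_coe, commutatorElement_def, h5]
      have h6 : u * t⁻¹ * u⁻¹ ∈ (T : Subgroup K) := by
        have := mul_mem (inv_mem (hU.1 ht)) hg
        rwa [inv_mul_cancel_left] at this
      exact mul_mem ht (hU.2 _ (inv_mem ht) u h6)
    subst hUT
    exact ⟨rfl, hom_eq_of_full T (full_of_quot hZ h T) hE.1.1 hE.1.2.2⟩

end Quot

end Cfsg.Agent.H747
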