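import Cfsg.Agent.H747.SolChain
import Cfsg.Agent.H747.RowFus
import Cfsg.Agent.H775.CompFinal
import Cfsg.Agent.H759.FusTransportD
import Cfsg.Agent.SignalizersComponents.CentSylowFStar
import Cfsg.Agent.SignalizersComponents.BalanceAux
import Cfsg.Agent.S1345
import Cfsg.Agent.S5148
import Cfsg.Agent.H802.FusNormalSub
import Cfsg.Agent.H222.SylowJoin

/-!
# S5161: components of the 2-fusion system of a group (helper747)

`main` : `O(G) = 1`, every component `K` of `G` has `K/Z(K)` a row (`OddRow` with `ClosedRow`, or `NormRow`): every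
component of `F_S(G)` is `F_{S ∩ K}(K)` for a component `K` of `G`.
-/

set_option autoImplicit false

namespace Cfsg.Agent.H747

open Subgroup Cfsg Cfsg.FusionSystem Cfsg.Agent.H802

section Comp

variable {G : Type*} [Group G]

/-- The system of `K`, read in the group `K`. -/
theorem isPush_subgroup {K T0 : Subgroup G} (h : T0 ≤ K) {T : Subgroup K} (hT : T = T0.subgroupOf K) :
    H759.IsPush (Subgroup.subtype_injective K) (groupFusionSystem T) (fusionSystemOfSubgroup K T0 h) := by
  subst hT
  refine ⟨?_, fun P φ => ?_⟩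
  · rw [Subgroup.subgroupOf_map_subtype, inf_eq_left.2 h]
  · constructor
    · rintro ⟨h1, h2, g, hg, h3⟩
      refine ⟨fun x hx => h1 ⟨x, hx, rfl⟩, fun x => ?_, ⟨g, hg⟩, fun x => ?_⟩
      · have h4 := h2 (H759.eqv (Subgroup.subtype_injective K) P x)
        rw [H759.cb_eqv] at h4
        exact h4
      · have h4 := h3 (H759.eqv (Subgroup.subtype_injective K) P x)
        rw [H759.cb_eqv] at h4
        exact Subtype.ext h4
    · rintro ⟨h1, h2, g, h3⟩
      refine ⟨?_, ?_, g, g.2, ?_⟩
      · rintro _ ⟨x, hx, rfl⟩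
        exact h1 hx
      · intro y
        obtain ⟨x, rfl⟩ := (H759.eqv (Subgroup.subtype_injective K) P).surjective y
        rw [H759.cb_eqv]
        exact h2 x
      · intro y
        obtain ⟨x, rfl⟩ := (H759.eqv (Subgroup.subtype_injective K) P).surjective y
        rw [H759.cb_eqv]
        have h4 := congrArg Subtype.val (h3 x)
        exact h4

theorem subnormal_cases {Ω : Type*} [Group Ω] {p : ℕ} {Z S₀ : Subgroup Ω} {F₀ : FusionSystem S₀}
    (hall : ∀ (U : Subgroup Ω) (E : FusionSystem U), E.IsNormalIn F₀ p → U ≤ Z ∨ (U = S₀ ∧ ∀ P, E.Hom P = F₀.Hom P))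
    {U : Subgroup Ω} {E : FusionSystem U} {S : Subgroup Ω} {F : FusionSystem S} (hs : E.IsSubnormalIn F p)
    (hS : S = S₀) (hF : ∀ P, F.Hom P = F₀.Hom P) : U ≤ Z ∨ (U = S₀ ∧ ∀ P, E.Hom P = F₀.Hom P) := by
  induction hs with
  | refl F p => exact Or.inr ⟨hS, hF⟩
  | @step V S E D F p h1 h2 ih =>
    subst hS
    have hFF : F = F₀ := fusionSystem_ext hF
    subst hFF
    rcases hall V D h2 with h3 | ⟨h3, h4⟩
    · exact Or.inl ((H759.IsSubnormalIn.le h1).trans h3)
    · exact ih hall h3 h4

/-- A component of the system of `K` is the whole system. -/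
theorem eq_of_component [Finite G] {K : Subgroup G} (hK : commutator K = ⊤) (hZ : IsPGroup 2 (center K))
    (hcl : Cfsg.Agent.ClosedTwo.ClosedRow (K ⧸ center K)) (h : OddRow (K ⧸ center K)) {T0 : Subgroup G}
    (hT0 : SylIn 2 T0 K) {T : Subgroup G} (C : FusionSystem T)
    (hC : C.IsComponentIn (fusionSystemOfSubgroup K T0 hT0.le) 2) :
    T = T0 ∧ ∀ P, C.Hom P = (fusionSystemOfSubgroup K T0 hT0.le).Hom P := by
  have hp : Fact (Nat.Prime 2) := ⟨Nat.prime_two⟩
  obtain ⟨T1, hT1⟩ := hT0.exists_sylow
  have hpush := isPush_subgroup hT0.le hT1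
  have hTT0 : T ≤ T0 := H759.IsSubnormalIn.le hC.1
  have hTK : T = (T.subgroupOf K).map K.subtype := by
    rw [Subgroup.subgroupOf_map_subtype, inf_eq_left.2 (hTT0.trans hT0.le)]
  obtain ⟨C1, hC1⟩ := H759.exists_pull' (hf := Subgroup.subtype_injective K) hTK C
  have hsub : C1.IsSubnormalIn (groupFusionSystem (T1 : Subgroup K)) 2 := hpush.isSubnormalIn_rev hC.1 hC1
  have hq : C1.Quasisimple 2 := hC1.quasisimple_iff.1 hC.2
  rcases subnormal_cases (Z := center K) (fun U E hE => eq_or_le_center hK hZ hcl h T1 hE) hsub rfl (fun _ => rfl)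
    with h1 | ⟨h1, h2⟩
  · exfalso
    refine S5148.result 2 ?_ C1 hq ?_
    · exact hZ.to_le h1
    · refine ⟨⟨fun a b => Subtype.ext ?_⟩⟩
      exact mem_center_iff.1 (h1 b.2) a
  · have h3 : T = T0 := by
      rw [hTK, h1, hT1, Subgroup.subgroupOf_map_subtype, inf_eq_left.2 hT0.le]
    subst h3
    refine ⟨rfl, fun P => ?_⟩
    have h4 : ∀ (V : Subgroup K) (D1 : FusionSystem V), V = (T1 : Subgroup K) →
        (∀ P, D1.Hom P = (groupFusionSystem (T1 : Subgroup K)).Hom P) →
        H759.IsPush (Subgroup.subtype_injective K) D1 C →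
        H759.IsPush (Subgroup.subtype_injective K) (groupFusionSystem (T1 : Subgroup K)) C := by
      rintro V D1 rfl hD1 hpD
      rwa [fusionSystem_ext hD1] at hpD
    exact (h4 _ C1 h1 h2 hC1).hom_eq hpush P

/-- A component of the system of `K` does not exist when `K/Z(K)` is a `NormRow`. -/
theorem false_of_component_normRow [Finite G] {K : Subgroup G} (hrow : NormRow (K ⧸ center K)) {T0 : Subgroup G}
    (hT0 : SylIn 2 T0 K) {T : Subgroup G} (C : FusionSystem T)
    (hC : C.IsComponentIn (fusionSystemOfSubgroup K T0 hT0.le) 2) : False := by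
  have hp : Fact (Nat.Prime 2) := ⟨Nat.prime_two⟩
  obtain ⟨T1, hT1⟩ := hT0.exists_sylow
  have hTT0 : T ≤ T0 := H759.IsSubnormalIn.le hC.1
  refine false_of_normRow (hT0.isPGroup.to_le hTT0) hC.2 K T1 (fun x hx => ⟨hT0.le (hTT0 hx), ?_⟩)
    (fun P φ hφ => ?_) hrow
  · rw [hT1]
    exact hTT0 hx
  · obtain ⟨-, -, h3⟩ := H758.isSubsystemOf_of_subnormal hC.1 P hφ
    exact h3

end Comp

/-- **Components of the 2-fusion system of a group with `O(G) = 1`.** -/
theorem main.{u} {G : Type u} [Group G] [Finite G] (hO : oddCore G = ⊥)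
    (hrow : ∀ K : Subgroup G, IsComponent K →
      (OddRow (K ⧸ center K) ∧ Cfsg.Agent.ClosedTwo.ClosedRow (K ⧸ center K)) ∨ NormRow (K ⧸ center K))
    (S : Sylow 2 G) {T : Subgroup G} (C : FusionSystem T)
    (hC : C.IsComponentIn (groupFusionSystem (S : Subgroup G)) 2) :
    ∃ K : Subgroup G, IsComponent K ∧ ∃ h : (S : Subgroup G) ⊓ K ≤ K, T = (S : Subgroup G) ⊓ K ∧
      ∀ P : Subgroup G, C.Hom P = (fusionSystemOfSubgroup K ((S : Subgroup G) ⊓ K) h).Hom P := by
  have hp : Fact (Nat.Prime 2) := ⟨Nat.prime_two⟩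
  have hsat := groupFusionSystem_isSaturated S
  have hTS : T ≤ (S : Subgroup G) := H759.IsSubnormalIn.le hC.1
  have hTp : IsPGroup 2 T := S.2.to_le hTS
  -- the generalized Fitting subgroup
  obtain ⟨N, hN⟩ : ∃ N : Subgroup G, N = generalizedFittingSubgroup G := ⟨_, rfl⟩
  have hNn : N.Normal := by rw [hN]; exact Lib.GenFitting.genFitting_normal
  have hNconj : ∀ h ∈ (⊤ : Subgroup G), ∀ n ∈ N, h * n * h⁻¹ ∈ N := fun h _ n hn => hNn.conj_mem n hn h
  obtain ⟨R, hR⟩ : ∃ R : Subgroup G, R = (S : Subgroup G) ⊓ N := ⟨_, rfl⟩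
  have hRN : SylIn 2 R N := by rw [hR]; exact (sylIn_top_of_sylow S).inf_normal le_top hNconj
  have hD : (fusionSystemOfSubgroup N R hRN.le).IsNormalIn (groupFusionSystem (S : Subgroup G)) 2 := by
    have h1 := groupFusionSystem_isNormalIn S N
    subst hR
    exact h1
  rcases H775.Comp.component_or_centralizes' S.2 hsat hC hD with hCD | ⟨hV, hHom⟩
  · -- `C` is a component of the system of `F*(G)`
    have hTR : T ≤ R := H759.IsSubnormalIn.le hCD.1
    have hsatN : (fusionSystemOfSubgroup N R hRN.le).IsSaturated 2 := fs_isSaturated hRN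
    have hKN : ∀ K : Subgroup G, IsComponent K → K ≤ N := fun K hK => by
      rw [hN]; exact Lib.GenFitting.component_le_genFitting hK
    have hNeq : N = layer G ⊔ pCore 2 G := by
      rw [hN, Lib.GenFitting.genFitting_def,
        SignalizersComponents.PConstrained.fittingSubgroup_eq_pCore_of_pPrimeCore_eq_bot 2 hO]
    have hNK : ∀ K : Subgroup G, IsComponent K → ∀ h ∈ N, ∀ n ∈ K, h * n * h⁻¹ ∈ K := by
      intro K hK h hh n hn
      have h1 : N ≤ normalizer (K : Set G) := by
        rw [hN, Lib.GenFitting.genFitting_def]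
        refine sup_le (SignalizersComponents.Components.layer_le_normalizer_component hK) ?_
        have h2 := SignalizersComponents.Components.layer_le_centralizer_fitting (G := G)
        have h3 : fittingSubgroup G ≤ centralizer (K : Set G) := by
          intro x hx
          refine mem_centralizer_iff.2 fun y hy => ?_
          have h4 := mem_centralizer_iff.1 (h2 (SignalizersComponents.Components.component_le_layer hK hy)) x hx
          exact h4.symm
        exact h3.trans (centralizer_le_normalizer _)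
      exact (mem_normalizer_iff.1 (h1 hh) n).1 hn
    -- dichotomy in `N`
    have dich : ∀ A : Subgroup G, A ≤ N → (∀ h ∈ N, ∀ n ∈ A, h * n * h⁻¹ ∈ A) →
        C.IsComponentIn (fusionSystemOfSubgroup A (R ⊓ A) inf_le_right) 2 ∨ R ⊓ A ≤ centralizer (T : Set G) := by
      intro A hAN hA
      have hfR : Finite R := finite_of_le hRN.le
      rcases H775.Comp.component_or_centralizes' hRN.isPGroup hsatN hCD (fs_isNormalIn hRN hAN hA) with h1 | ⟨h1, -⟩
      · exact Or.inl h1
      · refine Or.inr fun x hx => mem_centralizer_iff.2 fun y hy => ?_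
        exact ((mem_centralizer_iff.1 (h1 hy).2) x hx).symm
    have hSK : ∀ A : Subgroup G, A ≤ N → R ⊓ A = (S : Subgroup G) ⊓ A := by
      intro A hA
      rw [hR, inf_assoc, inf_eq_right.2 hA]
    by_cases hex : ∃ K : Subgroup G, IsComponent K ∧
        C.IsComponentIn (fusionSystemOfSubgroup K (R ⊓ K) inf_le_right) 2
    · obtain ⟨K, hK, hCK⟩ := hex
      have hT0 : SylIn 2 ((S : Subgroup G) ⊓ K) K := by
        rw [← hSK K (hKN K hK)]
        exact hRN.inf_normal (hKN K hK) (hNK K hK)
      have hCK' : C.IsComponentIn (fusionSystemOfSubgroup K ((S : Subgroup G) ⊓ K) hT0.le) 2 := by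
        have h1 : ∀ (V : Subgroup G) (hV : V ≤ K), V = R ⊓ K →
            C.IsComponentIn (fusionSystemOfSubgroup K V hV) 2 := by
          rintro V hV rfl
          exact hCK
        exact h1 _ hT0.le (hSK K (hKN K hK)).symm
      rcases hrow K hK with ⟨h1, h2⟩ | h1
      · have hperf : commutator K = ⊤ := by
          have := hK.2.1
          exact Group.IsPerfect.commutator_eq_top
        have hZ : IsPGroup 2 (center K) := by
          have h3 := SignalizersComponents.BalanceAux.center_component_le_pCore 2 hO hK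
          have h4 : (center K).map K.subtype ≤ pCore 2 G := by
            refine le_trans ?_ h3
            rintro _ ⟨y, hy, rfl⟩
            refine ⟨y.2, mem_centralizer_iff.mpr fun z hz => ?_⟩
            exact congrArg Subtype.val (mem_center_iff.mp hy ⟨z, hz⟩)
          have h5 : IsPGroup 2 ((center K).map K.subtype) := (Lib.Cores.pCore_isPGroup 2).to_le h4
          exact h5.of_injective ((center K).equivMapOfInjective _ K.subtype_injective).toMonoidHom
            ((center K).equivMapOfInjective _ K.subtype_injective).injective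
        obtain ⟨h6, h7⟩ := eq_of_component hperf hZ h2 h1 hT0 C hCK'
        exact ⟨K, hK, hT0.le, h6, h7⟩
      · exact (false_of_component_normRow h1 hT0 C hCK').elim
    · exfalso
      have hcentK : ∀ K : Subgroup G, IsComponent K → (S : Subgroup G) ⊓ K ≤ centralizer (T : Set G) := by
        intro K hK
        rw [← hSK K (hKN K hK)]
        rcases dich K (hKN K hK) (hNK K hK) with h1 | h1
        · exact (hex ⟨K, hK, h1⟩).elim
        · exact h1
      have hQN : pCore 2 G ≤ N := by rw [hNeq]; exact le_sup_right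
      have hQn : (pCore 2 G).Normal := Lib.Cores.pCore_normal 2
      have hcentQ : (S : Subgroup G) ⊓ pCore 2 G ≤ centralizer (T : Set G) := by
        rw [← hSK _ hQN]
        rcases dich (pCore 2 G) hQN (fun h _ n hn => hQn.conj_mem n hn h) with h1 | h1
        · exfalso
          have h2 : T ≤ pCore 2 G := (H759.IsSubnormalIn.le h1.1).trans inf_le_right
          have h3 : Group.IsSolvable (pCore 2 G) := by
            have := (Lib.Cores.pCore_isPGroup (G := G) 2).isNilpotent
            infer_instance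
          refine false_of_solvable hTp hC.2 (pCore 2 G) h2 (fun P φ hφ => ?_) (MonoidHom.id _) (fun x _ hx => hx)
          obtain ⟨-, -, h4⟩ := H758.isSubsystemOf_of_subnormal h1.1 P hφ
          exact h4
        · exact h1
      have hL : (layer G).IsSubnormal ∧ (S : Subgroup G) ⊓ layer G ≤ centralizer (T : Set G) := by
        refine Lib.Cores.sSup_induction_of_finite
          (P := fun A : Subgroup G => A.IsSubnormal ∧ (S : Subgroup G) ⊓ A ≤ centralizer (T : Set G)) _ ?_ ?_ ?_
        · exact ⟨Normal.isSubnormal inferInstance, by rw [inf_bot_eq]; exact bot_le⟩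
        · exact fun K hK => ⟨hK.1, hcentK K hK⟩
        · rintro A B ⟨hA1, hA2⟩ ⟨hB1, hB2⟩
          refine ⟨Lib.SubnormalJoin.isSubnormal_sup hA1 hB1, ?_⟩
          rw [H222.SylowJoin.sylow_inf_sup S hA1 hB1]
          exact sup_le hA2 hB2
      have hRc : R ≤ centralizer (T : Set G) := by
        rw [hR, hNeq, H222.SylowJoin.sylow_inf_sup S hL.1 (Normal.isSubnormal hQn)]
        exact sup_le hL.2 hcentQ
      refine S5148.result 2 hTp C hC.2 ⟨⟨fun a b => Subtype.ext ?_⟩⟩
      exact (mem_centralizer_iff.1 (hRc (hTR b.2)) a a.2)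
  · -- `C` centralizes `R`
    exfalso
    have hcomp : HasNormalPComplement 2 ↥(centralizer (R : Set G)) := by
      refine SignalizersComponents.CentSylowFStar.hasNormalPComplement_centralizer_aux S1345.zStar (F := N) ?_ hO
        hRN.isPGroup hRN.le ?_
      · rw [hN]; exact Lib.GenFitting.centralizer_genFitting_le
      · have h1 := H222.SylowJoin.not_dvd_relIndex_of_subnormal S.isPGroup' S.not_dvd_index (Normal.isSubnormal hNn)
        rw [hR, Subgroup.inf_relIndex_right]
        exact h1
    obtain ⟨M, hM, hM1, hM2⟩ := Transfer.NormalPComplement.hasNormalPComplement_iff.1 hcomp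
    have hTX : T ≤ centralizer (R : Set G) := fun x hx => (hV hx).2
    have hsol : Group.IsSolvable (↥(centralizer (R : Set G)) ⧸ M) := by
      have := hM2.isNilpotent
      infer_instance
    refine false_of_solvable hTp hC.2 (centralizer (R : Set G)) hTX (fun P φ hφ => ?_) (QuotientGroup.mk' M) ?_
    · obtain ⟨-, -, -, ψ, ⟨-, -, g, hg⟩, h3, h4⟩ := hHom P hφ
      refine ⟨g, mem_centralizer_iff.2 fun r hr => ?_, fun x => ?_⟩
      · have h5 := h4 ⟨r, hr⟩
        rw [hg] at h5
        have h6 : g * r * g⁻¹ = r := h5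
        calc r * g = g * r * g⁻¹ * g := by rw [h6]
          _ = g * r := by group
      · rw [← h3 x, hg]
        rfl
    · intro x hxT hx
      have hxM : x ∈ M := (QuotientGroup.eq_one_iff x).1 hx
      obtain ⟨k, hk⟩ := hTp ⟨(x : G), hxT⟩
      have hk' : x ^ 2 ^ k = 1 := by
        apply Subtype.ext
        have h0 : ((x : G)) ^ 2 ^ k = 1 := congrArg Subtype.val hk
        exact h0
      have h1 : orderOf x ∣ 2 ^ k := orderOf_dvd_of_pow_eq_one hk'
      have h2 : orderOf x ∣ Nat.card M := by
        have h3 := orderOf_dvd_natCard (⟨x, hxM⟩ : M)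
        rwa [← Subgroup.orderOf_coe] at h3
      have h4 : Nat.Coprime (Nat.card M) (2 ^ k) := Nat.Coprime.pow_right k hM1
      have h5 := Nat.Coprime.eq_one_of_dvd (Nat.Coprime.coprime_dvd_left h2 h4) h1
      exact orderOf_eq_one_iff.1 h5

end Cfsg.Agent.H747
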