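import Cfsg.Agent.H545.Yoshida
import Cfsg.Agent.Lib.FrattiniPGroup

/-!
# A nontrivial orbit with nontrivial transfer gives a quotient `C_p ≀ C_p` (helper747)

`κ : Q → Y → C_p` a cocycle for the action of the finite `p`-group `Q` on the finite set `Y`.

* `prod_eq_one_of_closed`: the product over an invariant set is trivial if all closed values are.
* `exists_surjective_of_orbit`: an orbit of `Q` with more than one element on which the product of `κ u` is
  nontrivial, while the closed values at nontrivial cycles of `u` are trivial, gives a map of `Q` onto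
  `C_p ≀ C_p`.
-/

set_option autoImplicit false

namespace Cfsg.Agent.H747.MonoOrbit

open Finset Cfsg.Agent.H545.WielandtYoshida Cfsg.Agent.H545.CommIter

section general

variable {G : Type*} [Group G] {Y : Type*} [MulAction G Y] {A : Type*} [CommGroup A]
  {κ : G → Y → A}

theorem cocycle_one (hκ : ∀ g h y, κ (g * h) y = κ g (h • y) * κ h y) (y : Y) : κ 1 y = 1 := by
  have h := hκ 1 1 y
  rw [mul_one, one_smul] at h
  exact left_eq_mul.mp h

theorem prod_smul_eq {Z : Finset Y} {g : G} (hg : ∀ c ∈ Z, g • c ∈ Z) (φ : Y → A) :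
    ∏ c ∈ Z, φ (g • c) = ∏ c ∈ Z, φ c := by
  classical
  have himg : Z.image (fun c => g • c) = Z := by
    refine Finset.eq_of_subset_of_card_le ?_ ?_
    · intro c hc
      obtain ⟨d, hd, rfl⟩ := Finset.mem_image.mp hc
      exact hg d hd
    · rw [Finset.card_image_of_injective _ (MulAction.injective g)]
  conv_rhs => rw [← himg]
  rw [Finset.prod_image]
  intro a _ b _ hab
  exact MulAction.injective g hab

/-- Translating the set is the same as conjugating the element. -/
theorem prod_translate (hκ : ∀ g h y, κ (g * h) y = κ g (h • y) * κ h y) (Z : Finset Y) (z u : G)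
    (hu : ∀ c ∈ Z, (z⁻¹ * u * z) • c ∈ Z) :
    ∏ c ∈ Z, κ u (z • c) = ∏ c ∈ Z, κ (z⁻¹ * u * z) c := by
  have h1 : ∀ c ∈ Z, κ (z⁻¹ * u * z) c =
      κ z⁻¹ (z • ((z⁻¹ * u * z) • c)) * κ u (z • c) * κ z c := by
    intro c _
    rw [mul_assoc z⁻¹ u z, hκ, hκ]
    have : (u * z) • c = z • ((z⁻¹ * (u * z)) • c) := by
      rw [smul_smul]; congr 1; group
    rw [← this, mul_assoc]
  rw [Finset.prod_congr rfl h1, Finset.prod_mul_distrib, Finset.prod_mul_distrib,
    prod_smul_eq hu (fun c => κ z⁻¹ (z • c))]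
  have h2 : (∏ c ∈ Z, κ z⁻¹ (z • c)) * ∏ c ∈ Z, κ z c = 1 := by
    rw [← Finset.prod_mul_distrib]
    refine Finset.prod_eq_one fun c _ => ?_
    rw [← hκ, inv_mul_cancel, cocycle_one hκ]
  rw [mul_right_comm, h2, one_mul]

theorem cocycle_pow (hκ : ∀ g h y, κ (g * h) y = κ g (h • y) * κ h y) (g : G) (c : Y) (n : ℕ) :
    κ (g ^ n) c = ∏ i ∈ Finset.range n, κ g (g ^ i • c) := by
  induction n with
  | zero => simp [cocycle_one hκ]
  | succ n ih => rw [pow_succ', hκ, ih, Finset.prod_range_succ, mul_comm]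

/-- If all "closed" cocycle values of powers of `g` are trivial then the product over an invariant
set is trivial. -/
theorem prod_eq_one_of_closed [Finite G] (hκ : ∀ g h y, κ (g * h) y = κ g (h • y) * κ h y)
    (g : G) (n : ℕ) :
    ∀ Z : Finset Y, Z.card = n → (∀ c ∈ Z, g • c ∈ Z) →
      (∀ c ∈ Z, ∀ m : ℕ, 0 < m → g ^ m • c = c → κ (g ^ m) c = 1) → ∏ c ∈ Z, κ g c = 1 := by
  classical
  induction n using Nat.strong_induction_on with
  | _ n ih =>
    intro Y' hY hg hm
    rcases Y'.eq_empty_or_nonempty with rfl | ⟨c, hc⟩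
    · simp
    have hpow : ∀ i : ℕ, ∀ d ∈ Y', g ^ i • d ∈ Y' := by
      intro i
      induction i with
      | zero => intro d hd; simpa using hd
      | succ i ihi => intro d hd; rw [pow_succ', mul_smul]; exact hg _ (ihi d hd)
    -- the length of the orbit
    have hex : ∃ m : ℕ, 0 < m ∧ g ^ m • c = c := by
      refine ⟨orderOf g, orderOf_pos g, ?_⟩
      rw [pow_orderOf_eq_one, one_smul]
    let m := Nat.find hex
    have hm0 : 0 < m := (Nat.find_spec hex).1
    have hmc : g ^ m • c = c := (Nat.find_spec hex).2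
    have hmin : ∀ k, k < m → 0 < k → g ^ k • c ≠ c := by
      intro k hk hk0 hkc
      exact Nat.find_min hex hk ⟨hk0, hkc⟩
    let Z : Finset Y := (Finset.range m).image (fun i => g ^ i • c)
    have hinj : Set.InjOn (fun i : ℕ => g ^ i • c) (Finset.range m : Set ℕ) := by
      intro i hi j hj hij
      simp only [Finset.coe_range, Set.mem_Iio] at hi hj
      simp only at hij
      rcases lt_trichotomy i j with h | h | h
      · exfalso
        refine hmin (j - i) (by omega) (by omega) ?_
        apply MulAction.injective (g ^ i)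
        simp only
        rw [smul_smul, ← pow_add, show i + (j - i) = j by omega, hij]
      · exact h
      · exfalso
        refine hmin (i - j) (by omega) (by omega) ?_
        apply MulAction.injective (g ^ j)
        simp only
        rw [smul_smul, ← pow_add, show j + (i - j) = i by omega, hij]
    have hZY : Z ⊆ Y' := by
      intro d hd
      obtain ⟨i, _, rfl⟩ := Finset.mem_image.mp hd
      exact hpow i c hc
    have hcZ : c ∈ Z := Finset.mem_image.mpr ⟨0, Finset.mem_range.mpr hm0, by simp⟩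
    have hgZ : ∀ d ∈ Z, g • d ∈ Z := by
      intro d hd
      obtain ⟨i, hi, rfl⟩ := Finset.mem_image.mp hd
      rw [Finset.mem_range] at hi
      by_cases h : i + 1 < m
      · exact Finset.mem_image.mpr ⟨i + 1, Finset.mem_range.mpr h, by simp only [pow_succ', mul_smul]⟩
      · have : i + 1 = m := by omega
        have h2 : g • g ^ i • c = c := by
          rw [← mul_smul, ← pow_succ', this, hmc]
        rw [h2]
        exact hcZ
    have hprodZ : ∏ d ∈ Z, κ g d = 1 := by
      rw [Finset.prod_image hinj, ← cocycle_pow hκ]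
      exact hm c hc m hm0 hmc
    -- the complement is invariant
    have hgZ' : ∀ d, g • d ∈ Z → d ∈ Z := by
      intro d hd
      have himg : Z.image (fun c => g • c) = Z := by
        refine Finset.eq_of_subset_of_card_le ?_ ?_
        · intro e he
          obtain ⟨d, hd, rfl⟩ := Finset.mem_image.mp he
          exact hgZ d hd
        · rw [Finset.card_image_of_injective _ (MulAction.injective g)]
      rw [← himg] at hd
      obtain ⟨e, he, hed⟩ := Finset.mem_image.mp hd
      have := MulAction.injective g hed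
      rwa [← this]
    have hrest : ∏ d ∈ Y' \ Z, κ g d = 1 := by
      refine ih (Y' \ Z).card ?_ (Y' \ Z) rfl ?_ ?_
      · rw [← hY]
        exact Finset.card_lt_card (Finset.sdiff_ssubset hZY ⟨c, hcZ⟩)
      · intro d hd
        rw [Finset.mem_sdiff] at hd ⊢
        exact ⟨hg d hd.1, fun h => hd.2 (hgZ' d h)⟩
      · intro d hd k hk hkd
        exact hm d (Finset.mem_sdiff.mp hd).1 k hk hkd
    rw [← Finset.prod_sdiff hZY, hrest, hprodZ, one_mul]

end general

/-- A nontrivial orbit with nontrivial transfer. -/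
theorem exists_surjective_of_orbit {Q : Type*} [Group Q] [Finite Q] {p : ℕ} [hp : Fact p.Prime]
    (hQ : IsPGroup p Q) {Y : Type*} [MulAction Q Y] [Fintype Y] {κ : Q → Y → Multiplicative (ZMod p)}
    (hκ : ∀ g h y, κ (g * h) y = κ g (h • y) * κ h y) (x : Y) (hx : ∃ g : Q, g • x ≠ x) (u : Q)
    (hu : ∀ z ∈ MulAction.orbit Q x, ∀ m, 0 < m → u • z ≠ z → u ^ m • z = z → κ (u ^ m) z = 1)
    (O : Finset Y) (hO : ∀ z, z ∈ O ↔ z ∈ MulAction.orbit Q x)
    (hne : ∏ z ∈ O, κ u z ≠ 1) :
    ∃ (P : Sylow p (Equiv.Perm (Fin (p ^ 2))))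
      (f : Q →* ↥(P : Subgroup (Equiv.Perm (Fin (p ^ 2))))), Function.Surjective f := by
  classical
  obtain ⟨g₀, hg₀⟩ := hx
  have hstab : MulAction.stabilizer Q x ≠ ⊤ := by
    intro h
    apply hg₀
    have : g₀ ∈ MulAction.stabilizer Q x := by rw [h]; exact Subgroup.mem_top _
    exact this
  obtain ⟨M, hM, hsM⟩ := (eq_top_or_exists_le_coatom (MulAction.stabilizer Q x)).resolve_left hstab
  have hMn : M.Normal := Cfsg.Agent.Lib.FrattiniPGroup.normal_of_coatom hQ hM
  have hMi : M.index = p := Cfsg.Agent.Lib.FrattiniPGroup.index_of_coatom hQ hM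
  have hsM' : ∀ g : Q, g • x = x → g ∈ M := fun g hg => hsM hg
  -- `u` lies in `M`
  have huM : u ∈ M := by
    by_contra huM
    apply hne
    refine prod_eq_one_of_closed hκ u O.card O rfl ?_ ?_
    · intro z hz
      rw [hO] at hz ⊢
      obtain ⟨g, rfl⟩ := hz
      exact ⟨u * g, mul_smul _ _ _⟩
    · intro z hz m hm hmz
      rw [hO] at hz
      refine hu z hz m hm (fun h => huM ?_) hmz
      obtain ⟨g, rfl⟩ := hz
      have h1 : (g⁻¹ * u * g) • x = x := by
        rw [mul_smul, mul_smul]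
        have h' : u • g • x = g • x := h
        rw [h', inv_smul_smul]
      have h2 := hMn.conj_mem _ (hsM' _ h1) g
      have h3 : g * (g⁻¹ * u * g) * g⁻¹ = u := by group
      rwa [h3] at h2
  -- an element outside `M`
  obtain ⟨t, ht⟩ : ∃ t : Q, t ∉ M := by
    by_contra hcon
    push Not at hcon
    exact hM.1 (eq_top_iff.2 fun g _ => hcon g)
  -- powers of `t` modulo `M`
  have hcardq : Nat.card (Q ⧸ M) = p := by rw [← Subgroup.index_eq_card, hMi]
  have htp : orderOf (QuotientGroup.mk' M t) = p := by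
    refine orderOf_eq_prime ?_ ?_
    · rw [← hcardq]; exact pow_card_eq_one'
    · intro h
      exact ht ((QuotientGroup.eq_one_iff t).1 h)
  have hpow : ∀ i : ℤ, t ^ i ∈ M → (p : ℤ) ∣ i := by
    intro i hi
    rw [← htp]
    apply orderOf_dvd_iff_zpow_eq_one.2
    rw [← map_zpow]
    exact (QuotientGroup.eq_one_iff _).2 hi
  have hcov : ∀ g : Q, ∃ i < p, (t ^ i)⁻¹ * g ∈ M := by
    intro g
    have h1 : (QuotientGroup.mk' M g) ∈ Subgroup.zpowers (QuotientGroup.mk' M t) := by
      have h2 : Subgroup.zpowers (QuotientGroup.mk' M t) = ⊤ := by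
        apply Subgroup.eq_top_of_card_eq
        rw [Nat.card_zpowers, htp, hcardq]
      rw [h2]
      exact Subgroup.mem_top _
    rw [← mem_powers_iff_mem_zpowers, mem_powers_iff_mem_range_orderOf, htp] at h1
    obtain ⟨i, hi, he⟩ := Finset.mem_image.1 h1
    refine ⟨i, Finset.mem_range.1 hi, ?_⟩
    rw [← QuotientGroup.eq]
    exact he
  -- the blocks
  let B : Finset Y := Finset.univ.filter fun z => ∃ m ∈ M, m • x = z
  have hB : ∀ z, z ∈ B ↔ ∃ m ∈ M, m • x = z := by
    intro z
    simp [B]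
  have hBM : ∀ m ∈ M, ∀ z ∈ B, m • z ∈ B := by
    intro m hm z hz
    rw [hB] at hz ⊢
    obtain ⟨k, hk, rfl⟩ := hz
    exact ⟨m * k, M.mul_mem hm hk, mul_smul _ _ _⟩
  have hOB : O = (Finset.range p).biUnion fun i => B.image fun z => t ^ i • z := by
    ext z
    rw [hO, Finset.mem_biUnion]
    constructor
    · rintro ⟨g, rfl⟩
      obtain ⟨i, hi, hm⟩ := hcov g
      refine ⟨i, Finset.mem_range.2 hi, Finset.mem_image.2 ⟨((t ^ i)⁻¹ * g) • x, ?_, ?_⟩⟩
      · rw [hB]
        exact ⟨_, hm, rfl⟩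
      · rw [← mul_smul, mul_inv_cancel_left]
    · rintro ⟨i, _, hz⟩
      obtain ⟨w, hw, rfl⟩ := Finset.mem_image.1 hz
      obtain ⟨m, _, rfl⟩ := (hB w).1 hw
      exact ⟨t ^ i * m, mul_smul _ _ _⟩
  have hdisj : Set.PairwiseDisjoint (↑(Finset.range p) : Set ℕ) fun i => B.image fun z => t ^ i • z := by
    intro i hi j hj hij
    simp only [Function.onFun]
    rw [Finset.disjoint_left]
    intro z hz hz'
    obtain ⟨w, hw, rfl⟩ := Finset.mem_image.1 hz
    obtain ⟨w', hw', he⟩ := Finset.mem_image.1 hz'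
    obtain ⟨m, hm, rfl⟩ := (hB w).1 hw
    obtain ⟨m', hm', rfl⟩ := (hB w').1 hw'
    have h1 : (m⁻¹ * ((t ^ i)⁻¹ * t ^ j) * m') • x = x := by
      have he' : t ^ j • m' • x = t ^ i • m • x := he
      rw [mul_smul, mul_smul, mul_smul, he', inv_smul_smul, inv_smul_smul]
    have h2 := hsM' _ h1
    have h3 : (t ^ i)⁻¹ * t ^ j ∈ M := by
      have h4 := M.mul_mem (M.mul_mem hm h2) (M.inv_mem hm')
      have h5 : m * (m⁻¹ * ((t ^ i)⁻¹ * t ^ j) * m') * m'⁻¹ = (t ^ i)⁻¹ * t ^ j := by group
      rwa [h5] at h4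
    have h4 : (t ^ i)⁻¹ * t ^ j = t ^ ((j : ℤ) - i) := by
      rw [zpow_sub, zpow_natCast, zpow_natCast]
      exact ((Commute.refl t).pow_pow j i).inv_right.eq.symm
    rw [h4] at h3
    have h5 := hpow _ h3
    simp only [Finset.coe_range, Set.mem_Iio] at hi hj
    have h6 : ((j : ℤ) - i).natAbs < p := by omega
    have h7 := Int.natAbs_dvd_natAbs.2 h5
    rw [Int.natAbs_natCast] at h7
    have h8 := Nat.eq_zero_of_dvd_of_lt h7 h6
    omega
  -- the homomorphism
  have hMt : ∀ r ∈ M, t⁻¹ * r * t ∈ M := by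
    intro r hr
    have := hMn.conj_mem r hr t⁻¹
    rwa [inv_inv] at this
  let σ : M →* M :=
    { toFun := fun r => ⟨t⁻¹ * r * t, hMt r r.2⟩
      map_one' := by apply Subtype.ext; simp
      map_mul' := by
        intro a b
        apply Subtype.ext
        simp only [Subgroup.coe_mul]
        group }
  have hσ : ∀ r : M, (σ r : Q) = t⁻¹ * r * t := fun r => rfl
  let lam : M →* Multiplicative (ZMod p) :=
    { toFun := fun m => ∏ z ∈ B, κ (m : Q) z
      map_one' := Finset.prod_eq_one fun z _ => cocycle_one hκ z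
      map_mul' := by
        intro a b
        show ∏ z ∈ B, κ ((a : Q) * b) z = (∏ z ∈ B, κ (a : Q) z) * ∏ z ∈ B, κ (b : Q) z
        rw [Finset.prod_congr rfl fun z _ => hκ a b z, Finset.prod_mul_distrib,
          prod_smul_eq (hBM b b.2) (fun z => κ (a : Q) z)] }
  have hprod : ∏ z ∈ O, κ u z = ∏ i ∈ Finset.range p, lam (σ^[i] ⟨u, huM⟩) := by
    rw [hOB, Finset.prod_biUnion hdisj]
    refine Finset.prod_congr rfl fun i _ => ?_
    rw [Finset.prod_image fun a _ b _ hab => MulAction.injective (t ^ i) hab]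
    have h1 : ((t ^ i)⁻¹ * u * t ^ i) ∈ M := by
      have := hMn.conj_mem u huM (t ^ i)⁻¹
      rwa [inv_inv] at this
    rw [prod_translate hκ B (t ^ i) u (hBM _ h1)]
    show _ = ∏ z ∈ B, κ ((σ^[i] ⟨u, huM⟩ : M) : Q) z
    rw [iterate_conj M σ t hσ]
  rw [hprod, prod_iterate_eq] at hne
  have hcomm := iterate_comm M σ t hσ (p - 1) ⟨u, huM⟩
  have hm : (fun y : Q => y⁻¹ * t⁻¹ * y * t)^[p - 1] ((⟨u, huM⟩ : M) : Q) ∈ M := by
    rw [← hcomm]
    exact Subtype.property _
  refine Cfsg.Agent.H545.Yoshida.exists_surjective_of_comm hQ M hMi lam t ⟨u, huM⟩ hm ?_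
  have h1 : (⟨_, hm⟩ : M) = (fun w => w⁻¹ * σ w)^[p - 1] ⟨u, huM⟩ := Subtype.ext hcomm.symm
  rw [h1]
  exact hne

end Cfsg.Agent.H747.MonoOrbit
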