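import Cfsg.Agent.H747.PspRtwo
import Cfsg.Agent.H763.PsaPsp

/-!
# `PSp_2m(q)`, `q ≡ ±3 mod 8`: the row, given the frame (helper747, S5161)
-/

set_option autoImplicit false
set_option linter.unusedSectionVars false

namespace Cfsg.Agent.H747.PspRow

open Matrix Subgroup Cfsg Cfsg.Agent.ClassicalGeometry.SympBasic Cfsg.Agent.HoltZ.Psp Cfsg.Agent.ClosedTwo.Psp

variable {F : Type*} [Field F] {m : ℕ}

local notation "V" => (Fin m ⊕ Fin m → F)
local notation "G" => Matrix.symplecticGroup (Fin m) F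
local notation "Mat" => Matrix (Fin m ⊕ Fin m) (Fin m ⊕ Fin m) F
local notation "SL" => Matrix.SpecialLinearGroup (Fin 2) F
local notation "M2" => Matrix (Fin 2) (Fin 2) F

theorem le_twoGen {A : Type*} [Group A] {R : Subgroup A} (hR : IsPGroup 2 R) : R ≤ twoGen R := by
  intro x hx
  refine subset_closure ⟨le_normalizer hx, ?_⟩
  obtain ⟨k, hk⟩ := hR ⟨x, hx⟩
  exact ⟨k, congrArg Subtype.val hk⟩

/-- powers of `y` in the planes -/
def Bc (y : Matrix.SpecialLinearGroup (Fin 2) F) (c : Fin m → ℤ) : Matrix.symplecticGroup (Fin m) F :=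
  blk (fun k => y ^ c k)

theorem Bc_add (y : SL) (c d : Fin m → ℤ) : Bc y (c + d) = Bc y c * Bc y d := by
  unfold Bc
  rw [← map_mul]
  congr 1
  funext k
  rw [Pi.add_apply, _root_.zpow_add]
  rfl

theorem Bc_zero (y : SL) : Bc y (0 : Fin m → ℤ) = 1 := by
  unfold Bc
  have : (fun k : Fin m => y ^ (0 : Fin m → ℤ) k) = 1 := by
    funext k
    rw [Pi.zero_apply, _root_.zpow_zero]
    rfl
  rw [this, map_one]

theorem Bc_neg (y : SL) (c : Fin m → ℤ) : Bc y (-c) = (Bc y c)⁻¹ := by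
  rw [eq_inv_iff_mul_eq_one, ← Bc_add, neg_add_cancel, Bc_zero]

theorem Bc_sum {ι : Type*} (y : SL) (s : Finset ι) (f : ι → Fin m → ℤ) (S : Subgroup G) (h : ∀ i ∈ s, Bc y (f i) ∈ S) :
    Bc y (∑ i ∈ s, f i) ∈ S := by
  classical
  induction s using Finset.induction_on with
  | empty => rw [Finset.sum_empty, Bc_zero]; exact one_mem _
  | insert a s ha ih =>
    rw [Finset.sum_insert ha, Bc_add]
    exact mul_mem (h a (Finset.mem_insert_self a s)) (ih fun i hi => h i (Finset.mem_insert_of_mem hi))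

theorem Bc_smul (y : SL) (S : Subgroup G) {c : Fin m → ℤ} (h : Bc y c ∈ S) (t : ℤ) : Bc y (t • c) ∈ S := by
  have : Bc y (t • c) = (Bc y c) ^ t := by
    unfold Bc
    rw [← map_zpow]
    congr 1
    funext k
    rw [Pi.smul_apply, smul_eq_mul, mul_comm, _root_.zpow_mul]
    rfl
  rw [this]
  exact zpow_mem h t

theorem pmh_Bc (y : SL) (c : Fin m → ℤ) (σ : Equiv.Perm (Fin m)) :
    (pmh σ : G) * Bc y c * (pmh σ : G)⁻¹ = Bc y (fun k => c (σ.symm k)) := pmh_blk _ _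

section

variable {P : Subgroup (Matrix.SpecialLinearGroup (Fin 2) F)} {T : Subgroup (Equiv.Perm (Fin m))}
  {ρ : Equiv.Perm (Fin m)} {hc : ∀ τ ∈ T, τ * ρ = ρ * τ} {hρ : ρ * ρ = 1} {i j y : Matrix.SpecialLinearGroup (Fin 2) F}

theorem single_swap (k i0 : Fin m) (t : ℤ) (l : Fin m) :
    (Pi.single k t : Fin m → ℤ) ((Equiv.swap k i0).symm l) = (Pi.single i0 t : Fin m → ℤ) l := by
  by_cases h : l = i0
  · rw [h, Equiv.symm_swap, Equiv.swap_apply_right, Pi.single_eq_same, Pi.single_eq_same]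
  · rw [Pi.single_eq_of_ne h, Pi.single_eq_of_ne]
    intro h'
    apply h
    rw [Equiv.symm_apply_eq, Equiv.swap_apply_left] at h'
    exact h'

theorem Bc_two_aux [Finite F] (hyN : y ∈ normalizer (P : Set SL)) (k i0 : Fin m) (t : ℤ) :
    Bc y (Pi.single k t - Pi.single i0 t : Fin m → ℤ) ∈ twoGen (R2 m P) := by
  have hx : ∀ c : Fin m → ℤ, Bc y c ∈ normalizer (R2 m P : Set G) := fun c =>
    blk_mem_normalizer_R2 fun k => zpow_mem hyN _
  have hs : (pmh (Equiv.swap k i0) : G) ∈ normalizer (R2 m P : Set G) := pmh_mem_normalizer_R2 _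
  have hss : (pmh (Equiv.swap k i0) : G) * pmh (Equiv.swap k i0) = 1 := by
    rw [← map_mul, Equiv.swap_mul_self, map_one]
  have e : Bc y (Pi.single k t - Pi.single i0 t : Fin m → ℤ) =
      (Bc y (Pi.single k t) * pmh (Equiv.swap k i0) * (Bc y (Pi.single k t))⁻¹) * (pmh (Equiv.swap k i0))⁻¹ := by
    have e1 : (pmh (Equiv.swap k i0) : G) * Bc y (-Pi.single k t) * (pmh (Equiv.swap k i0) : G)⁻¹ =
        Bc y (-Pi.single i0 t) := by
      rw [pmh_Bc]
      congr 1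
      funext l
      rw [Pi.neg_apply, Pi.neg_apply, single_swap]
    rw [sub_eq_add_neg, Bc_add, ← e1, Bc_neg]
    simp only [mul_assoc]
  rw [e]
  refine mul_mem (subset_closure ⟨mul_mem (mul_mem (hx _) hs) (inv_mem (hx _)), 1, ?_⟩)
    (inv_mem (subset_closure ⟨hs, 1, ?_⟩))
  · rw [pow_one, pow_two]
    calc _ = Bc y (Pi.single k t) * (pmh (Equiv.swap k i0) * pmh (Equiv.swap k i0)) * (Bc y (Pi.single k t))⁻¹ := by
          group
      _ = 1 := by rw [hss, mul_one, mul_inv_cancel]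
  · rw [pow_one, pow_two, hss]

theorem Bc_two [Finite F] (hW : IsPGroup 2 (Wr P T : Subgroup G)) (hyN : y ∈ normalizer (P : Set SL))
    (h3 : ∀ t : ℤ, y ^ (3 * t) ∈ P) (i0 : Fin m) {d : Fin m → ℤ} (hd : (3 : ℤ) ∣ ∑ k, d k) :
    Bc y d ∈ twoGen (R2 m P) := by
  have hR : IsPGroup 2 (R2 m P) := hW.to_le R2_le
  have e : d = (∑ k, (Pi.single k (d k) - Pi.single i0 (d k) : Fin m → ℤ)) + Pi.single i0 (∑ k, d k) := by
    rw [Finset.sum_sub_distrib, Finset.univ_sum_single]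
    have : (∑ k, (Pi.single i0 (d k) : Fin m → ℤ)) = Pi.single i0 (∑ k, d k) := by
      funext l
      rw [Finset.sum_apply]
      by_cases h : l = i0
      · rw [h, Pi.single_eq_same]
        exact Finset.sum_congr rfl fun k _ => by rw [Pi.single_eq_same]
      · rw [Pi.single_eq_of_ne h]
        exact Finset.sum_eq_zero fun k _ => by rw [Pi.single_eq_of_ne h]
    rw [this, sub_add_cancel]
  rw [e, Bc_add]
  refine mul_mem (Bc_sum y _ _ _ fun k _ => Bc_two_aux hyN k i0 (d k)) ?_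
  obtain ⟨t, ht⟩ := hd
  rw [ht]
  refine le_twoGen hR (mem_R2 fun l => ?_)
  by_cases h : l = i0
  · rw [h, Pi.single_eq_same]; exact h3 t
  · rw [Pi.single_eq_of_ne h, _root_.zpow_zero]; exact P.one_mem

/-- constant on orbits: in the normalizer -/
theorem Bc_mem_normalizer [Finite F] (hyN : y ∈ normalizer (P : Set SL)) {c : Fin m → ℤ}
    (h : ∀ τ ∈ T, ∀ k, c (τ k) = c k) : Bc y c ∈ normalizer (Wr P T : Set G) := by
  refine mem_normalizer_of_forall fun w hw => ?_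
  obtain ⟨g, σ, hg, hσ, rfl⟩ := Cfsg.Agent.H763.Psa.Psp.exists_mem_wr hw
  have e1 : (pmh σ : G) * Bc y c * (pmh σ : G)⁻¹ = Bc y c := by
    rw [pmh_Bc]
    congr 1
    funext k
    exact h _ (T.inv_mem hσ) k
  have e2 : Bc y c * pmh σ * (Bc y c)⁻¹ = (pmh σ : G) := by
    rw [mul_inv_eq_iff_eq_mul] at e1
    rw [← e1, mul_inv_cancel_right]
  have e3 : Bc y c * (blk g * pmh σ) * (Bc y c)⁻¹ = (Bc y c * blk g * (Bc y c)⁻¹) * (Bc y c * pmh σ * (Bc y c)⁻¹) := by
    group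
  rw [e3, e2]
  refine mul_mem ?_ (pmh_mem hσ)
  unfold Bc
  rw [← map_mul, ← map_inv, ← map_mul]
  exact blk_mem fun k => (mem_normalizer_iff.1 (zpow_mem hyN _) _).1 (hg k)

/-- a multiplier constant on orbits, in `R₁`-terms -/
theorem exists_orbit [Finite F] (hf : (2 : F) ≠ 0) (hT : IsPGroup 2 T) (hW : IsPGroup 2 (Wr P T : Subgroup G))
    (H : Q8 P i j) (hy : (2 : F) • (((2⁻¹ : F) • (1 + (i : M2))) * ((2⁻¹ : F) • (1 + (j : M2)))) = (y : M2))
    (hρT : ρ ∈ T) (hρ1 : ρ ≠ 1)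
    (hsw : ∀ a, Equiv.swap a (ρ a) ∈ T ∧ ∀ k, Equiv.swap a (ρ a) k = k ∨ Equiv.swap a (ρ a) k = ρ k) :
    ∃ d : Fin m → ℤ, Bc y d ∈ twoGen (R1 P T ρ hc hρ) ∧ (∀ τ ∈ T, ∀ k, d (τ k) = d k) ∧ ¬ (3 : ℤ) ∣ ∑ k, d k := by
  classical
  have hp : Fact (Nat.Prime 2) := ⟨Nat.prime_two⟩
  have hρρ : ∀ k, ρ (ρ k) = k := fun k => by rw [← Equiv.Perm.mul_apply, hρ]; rfl
  obtain ⟨a0, ha0⟩ : ∃ a0, ρ a0 ≠ a0 := by
    by_contra h
    push Not at h
    exact hρ1 (Equiv.ext h)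
  set B : Finset (Fin m) := Finset.univ.filter (fun k => ∃ τ ∈ T, τ a0 = k) with hB
  have memB : ∀ k, k ∈ B ↔ ∃ τ ∈ T, τ a0 = k := fun k => by simp [hB]
  have stab : ∀ τ ∈ T, ∀ k, (τ k ∈ B ↔ k ∈ B) := by
    intro τ hτ k
    rw [memB, memB]
    constructor
    · rintro ⟨σ, hσ, h⟩
      refine ⟨τ⁻¹ * σ, T.mul_mem (T.inv_mem hτ) hσ, ?_⟩
      rw [Equiv.Perm.mul_apply, h]
      exact Equiv.symm_apply_apply τ k
    · rintro ⟨σ, hσ, h⟩
      exact ⟨τ * σ, T.mul_mem hτ hσ, by rw [Equiv.Perm.mul_apply, h]⟩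
  have moved : ∀ k ∈ B, ρ k ≠ k := by
    intro k hk h
    obtain ⟨τ, hτ, rfl⟩ := (memB k).1 hk
    rw [← comm_apply hc hτ] at h
    exact ha0 (τ.injective h)
  let e : Fin m → Fin m → ℤ := fun k l => if l = k ∨ l = ρ k then 1 else 0
  have he : ∀ k, Bc y (e k) = blk (pr k (ρ k) y) := by
    intro k
    unfold Bc
    congr 1
    funext l
    simp only [e, pr]
    split_ifs
    · exact zpow_one y
    · exact _root_.zpow_zero y
  have hval : ∀ l, (∑ k ∈ B, e k) l = if l ∈ B then 2 else 0 := by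
    intro l
    rw [Finset.sum_apply]
    have h1 : ∀ k ∈ B, e k l = (if l = k then (1 : ℤ) else 0) + (if ρ l = k then 1 else 0) := by
      intro k hk
      have h2 : l = ρ k ↔ ρ l = k := by
        constructor
        · intro h; rw [h, hρρ]
        · intro h; rw [← h, hρρ]
      simp only [e, h2]
      by_cases h3 : l = k
      · have h4 : ρ l ≠ k := by rw [h3]; exact moved k hk
        rw [if_pos (Or.inl h3), if_pos h3, if_neg h4, add_zero]
      · simp [h3]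
    rw [Finset.sum_congr rfl h1, Finset.sum_add_distrib, Finset.sum_ite_eq, Finset.sum_ite_eq]
    by_cases h : l ∈ B
    · rw [if_pos h, if_pos h, if_pos ((stab ρ hρT l).2 h)]; norm_num
    · rw [if_neg h, if_neg h, if_neg (fun h' => h ((stab ρ hρT l).1 h'))]; norm_num
  refine ⟨∑ k ∈ B, e k, Bc_sum y B e _ fun k hk => ?_, fun τ hτ k => ?_, ?_⟩
  · rw [he]
    exact pr_mem_twoGen hf hW H hy (moved k hk).symm rfl (hρρ k) (hsw k).1 (hsw k).2
  · rw [hval, hval]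
    by_cases h : k ∈ B
    · rw [if_pos h, if_pos ((stab τ hτ k).2 h)]
    · rw [if_neg h, if_neg (fun h' => h ((stab τ hτ k).1 h'))]
  · have h1 : ∑ l, (∑ k ∈ B, e k) l = 2 * (B.card : ℤ) := by
      rw [Finset.sum_congr rfl fun l _ => hval l, ← Finset.sum_filter]
      simp [mul_comm]
    rw [h1]
    obtain ⟨n, hn⟩ := hT.card_orbit a0
    have h2 : B.card = 2 ^ n := by
      rw [← hn, Nat.card_coe_set_eq, Set.ncard_eq_toFinset_card']
      congr 1
      ext k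
      rw [memB, Set.mem_toFinset, MulAction.mem_orbit_iff]
      constructor
      · rintro ⟨τ, hτ, h⟩
        exact ⟨⟨τ, hτ⟩, h⟩
      · rintro ⟨τ, h⟩
        exact ⟨τ, τ.2, h⟩
    rw [h2]
    intro h
    have h3 : 3 ∣ 2 * 2 ^ n := by exact_mod_cast h
    rw [← pow_succ'] at h3
    have h4 := Nat.Prime.dvd_of_dvd_pow Nat.prime_three h3
    norm_num at h4

end

end Cfsg.Agent.H747.PspRow
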