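import Cfsg.Agent.H747.RowTwo

/-!
# S5161: `OddRow` of a quotient by a central 2-subgroup (helper747)
-/

set_option autoImplicit false

namespace Cfsg.Agent.H747

open Subgroup

variable {G K : Type*} [Group G] [Group K]

/-- `Full` modulo `Z` -/
def FullZ (Z W H : Subgroup G) : Prop :=
  W ≤ H ∧ ∀ R : Subgroup G, R ≤ W → W ≤ normalizer (R : Set G) →
    (∀ w ∈ W, (∀ r ∈ R, w * r * w⁻¹ * r⁻¹ ∈ Z) → w ∈ R) →
    ∀ g ∈ normalizer (W : Set G), g ∈ twoGen R → g ∈ H

theorem map_mem_normalizer {π : G →* K} {R : Subgroup G} {x : G} (hx : x ∈ normalizer (R : Set G)) :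
    π x ∈ normalizer ((R.map π : Subgroup K) : Set K) := by
  refine mem_normalizer_iff.2 fun z => ⟨?_, ?_⟩
  · rintro ⟨r, hr, rfl⟩
    exact ⟨x * r * x⁻¹, (mem_normalizer_iff.1 hx r).1 hr, by simp⟩
  · rintro ⟨r, hr, he⟩
    refine ⟨x⁻¹ * r * x, ?_, ?_⟩
    · have := (mem_normalizer_iff.1 (inv_mem hx) r).1 hr
      rwa [inv_inv] at this
    · rw [map_mul, map_mul, he, map_inv]
      group

theorem oddRow_of_fullZ [Finite G] {π : G →* K} (hπ : Function.Surjective π) (W : Sylow 2 G)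
    (hZ : π.ker ≤ (W : Subgroup G))
    (h : ∀ H : Subgroup G, FullZ π.ker (W : Subgroup G) H → normalizer ((W : Subgroup G) : Set G) ≤ H) :
    OddRow K := by
  have hp : Fact (Nat.Prime 2) := ⟨Nat.prime_two⟩
  refine ⟨W.mapSurjective hπ, fun H hH => ?_⟩
  have hT : ((W.mapSurjective hπ : Sylow 2 K) : Subgroup K) = (W : Subgroup G).map π := rfl
  rw [hT] at hH ⊢
  have hmem : ∀ {R : Subgroup G}, π.ker ≤ R → ∀ x : G, π x ∈ R.map π → x ∈ R := by
    rintro R hR x ⟨r, hr, he⟩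
    have h1 : x * r⁻¹ ∈ π.ker := by rw [MonoidHom.mem_ker, map_mul, map_inv, he, mul_inv_cancel]
    have h2 := mul_mem (hR h1) hr
    rwa [inv_mul_cancel_right] at h2
  have key : FullZ π.ker (W : Subgroup G) (H.comap π) := by
    refine ⟨fun x hx => hH.1 ⟨x, hx, rfl⟩, fun R hR hWR hC g hg hgt => ?_⟩
    have hZR : π.ker ≤ R := by
      intro z hz
      refine hC z (hZ hz) fun r _ => ?_
      have h1 : r * z⁻¹ * r⁻¹ ∈ π.ker := (inferInstance : π.ker.Normal).conj_mem _ (inv_mem hz) r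
      have h2 := mul_mem hz h1
      rwa [← mul_assoc, ← mul_assoc] at h2
    refine hH.2.2 (R.map π) (Subgroup.map_mono hR) ?_ ?_ (π g) (map_mem_normalizer hg) ?_
    · rintro _ ⟨w, hw, rfl⟩
      exact map_mem_normalizer (hWR hw)
    · rintro _ ⟨⟨w, hw, rfl⟩, hw2⟩
      refine ⟨w, hC w hw fun r hr => ?_, rfl⟩
      have h1 := mem_centralizer_iff.1 hw2 (π r) ⟨r, hr, rfl⟩
      rw [MonoidHom.mem_ker, map_mul, map_mul, map_mul, map_inv, map_inv, ← h1]
      group
    · have h1 : (twoGen R).map π ≤ twoGen (R.map π) := by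
        rw [twoGen, MonoidHom.map_closure, closure_le]
        rintro _ ⟨x, ⟨hx, k, hk⟩, rfl⟩
        exact subset_closure ⟨map_mem_normalizer hx, k, by rw [← map_pow, hk, map_one]⟩
      exact h1 ⟨g, hgt, rfl⟩
  have h5 := h _ key
  intro t ht
  obtain ⟨g, rfl⟩ := hπ t
  refine h5 (mem_normalizer_iff.2 fun x => ?_)
  have h6 := mem_normalizer_iff.1 ht (π x)
  constructor
  · intro hx
    apply hmem hZ
    rw [map_mul, map_mul, map_inv]
    exact h6.1 ⟨x, hx, rfl⟩
  · intro hx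
    apply hmem hZ
    apply h6.2
    rw [← map_inv, ← map_mul, ← map_mul]
    exact ⟨_, hx, rfl⟩

end Cfsg.Agent.H747
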