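import Cfsg.Agent.H747.PspRone

/-!
# `PSp_2m(q)`, `q ≡ ±3 mod 8`: `R₁` and `R₂` are centric, the action of `wE` (helper747, S5161)
-/

set_option autoImplicit false
set_option linter.unusedSectionVars false

namespace Cfsg.Agent.H747.PspRow

open Matrix Subgroup Cfsg Cfsg.Agent.ClassicalGeometry.SympBasic Cfsg.Agent.HoltZ.Psp Cfsg.Agent.ClosedTwo.Psp

variable {F : Type*} [Field F] {m : ℕ}

local notation "V" => (Fin m ⊕ Fin m → F)
local notation "G" => Matrix.symplecticGroup (Fin m) F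
local notation "Mat" => Matrix (Fin m ⊕ Fin m) (Fin m ⊕ Fin m) F
local notation "SL" => Matrix.SpecialLinearGroup (Fin 2) F
local notation "M2" => Matrix (Fin 2) (Fin 2) F

theorem Q8.symm {P : Subgroup SL} {i j : SL} (H : Q8 P i j) : Q8 P j i where
  i_mem := H.j_mem
  j_mem := H.i_mem
  ii := H.jj
  jj := H.ii
  ji := by rw [H.ji, neg_neg]
  el := by
    intro x hx
    have e : j * i = -(i * j) := H.ji
    rw [e, neg_neg]
    rcases H.el x hx with h | h | h | h | h | h | h | h <;> simp [h]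

theorem one_ne_neg_one (h2 : (2 : F) ≠ 0) : (1 : SL) ≠ -1 := by
  intro h
  have h3 := congrArg (fun x : SL => (x : M2) 0 0) h
  simp at h3
  apply h2
  linear_combination h3

theorem Q8.i_ne_sign (h2 : (2 : F) ≠ 0) {P : Subgroup SL} {i j : SL} (H : Q8 P i j) : i ≠ 1 ∧ i ≠ -1 := by
  constructor
  · intro h
    have := H.ii
    rw [h, one_mul] at this
    exact one_ne_neg_one h2 this
  · intro h
    have := H.ii
    rw [h, neg_mul_neg, one_mul] at this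
    exact one_ne_neg_one h2 this

section Centric

variable {P : Subgroup (Matrix.SpecialLinearGroup (Fin 2) F)} {T : Subgroup (Equiv.Perm (Fin m))}
  {ρ : Equiv.Perm (Fin m)} {Z : Subgroup (Matrix.symplecticGroup (Fin m) F)}

theorem z_conj (hZ : ∀ z ∈ Z, z = 1 ∨ z = blk (fun _ => -1)) {g h : Fin m → SL} {τ s : Equiv.Perm (Fin m)}
    (hw : (blk g * pmh τ * (blk h * pmh s) * (blk g * pmh τ)⁻¹ * (blk h * pmh s)⁻¹ : G) ∈ Z) :
    ∃ ε : SL, (ε = 1 ∨ ε = -1) ∧ (∀ l, g l * h (τ.symm l) * (g ((τ * s⁻¹ * τ⁻¹) l))⁻¹ = ε * h l) ∧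
      τ * s * τ⁻¹ = s := by
  obtain ⟨ε, hε, hz⟩ : ∃ ε : SL, (ε = 1 ∨ ε = -1) ∧
      (blk g * pmh τ * (blk h * pmh s) * (blk g * pmh τ)⁻¹ * (blk h * pmh s)⁻¹ : G) = blk (fun _ => ε) := by
    rcases hZ _ hw with h1 | h1
    · exact ⟨1, Or.inl rfl, by rw [h1]; exact (map_one blk).symm⟩
    · exact ⟨-1, Or.inr rfl, h1⟩
  rw [mul_inv_eq_iff_eq_mul, wr_conj, ← mul_assoc, ← map_mul] at hz
  obtain ⟨h1, h2⟩ := wr_inj hz
  exact ⟨ε, hε, fun l => congrFun h1 l, h2⟩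

theorem Q8.conj_ne (h2 : (2 : F) ≠ 0) {P : Subgroup SL} {i j : SL} (H : Q8 P i j) {g ε : SL} (hε : ε = 1 ∨ ε = -1)
    (h : g * i * g⁻¹ = ε) : False := by
  rw [mul_inv_eq_iff_eq_mul] at h
  have h1 : g * i = g * ε := by
    rcases hε with h' | h' <;> rw [h, h'] <;> simp
  have h3 := mul_left_cancel h1
  rcases hε with h' | h'
  · exact (H.i_ne_sign h2).1 (h3.trans h')
  · exact (H.i_ne_sign h2).2 (h3.trans h')

theorem pr_good (hρ : ρ * ρ = 1) {a b : Fin m} (hab : ρ a = b) {q : SL} (hq : q ∈ P) : Good P T ρ (pr a b q) 1 := by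
  have hρρ : ∀ k, ρ (ρ k) = k := fun k => by rw [← Equiv.Perm.mul_apply, hρ]; rfl
  refine ⟨fun k => ?_, T.one_mem, fun k _ => ⟨Or.inl rfl, Or.inl ?_⟩⟩
  · unfold pr
    split_ifs
    · exact hq
    · exact P.one_mem
  · unfold pr
    have h1 : (ρ k = a ∨ ρ k = b) ↔ (k = a ∨ k = b) := by
      constructor
      · rintro (h | h)
        · right; rw [← hab, ← h, hρρ]
        · left; rw [← hab] at h; exact ρ.injective h
      · rintro (h | h)
        · right; rw [h, hab]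
        · left; rw [h, ← hab, hρρ]
    by_cases h : k = a ∨ k = b
    · rw [if_pos h, if_pos (h1.2 h)]
    · rw [if_neg h, if_neg (fun h' => h (h1.1 h'))]

theorem sign_good (hn : (-1 : SL) ∈ P) (b : Fin m) : Good P T ρ (Pi.mulSingle b (-1)) 1 := by
  have h1 : ∀ k, (Pi.mulSingle b (-1) : Fin m → SL) k = 1 ∨ (Pi.mulSingle b (-1) : Fin m → SL) k = -1 := by
    intro k
    by_cases h : k = b
    · right; rw [h, Pi.mulSingle_eq_same]
    · left; rw [Pi.mulSingle_eq_of_ne h]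
  refine ⟨fun k => ?_, T.one_mem, fun k _ => ⟨Or.inl rfl, ?_⟩⟩
  · rcases h1 k with h | h <;> rw [h]
    · exact P.one_mem
    · exact hn
  · rcases h1 k with h | h <;> rcases h1 (ρ k) with h' | h' <;> rw [h, h'] <;> simp

variable {hc : ∀ τ ∈ T, τ * ρ = ρ * τ} {hρ : ρ * ρ = 1}

theorem swap_good {s : Equiv.Perm (Fin m)} (hs : s ∈ T) (h : ∀ k, s k = k ∨ s k = ρ k) : Good P T ρ 1 s :=
  ⟨fun _ => P.one_mem, hs, fun k _ => ⟨h k, Or.inl rfl⟩⟩

/-- `R₁` is centric modulo `±1` -/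
theorem R1_centric (h2 : (2 : F) ≠ 0) {i j : SL} (H : Q8 P i j)
    (hsw : ∀ a, Equiv.swap a (ρ a) ∈ T ∧ ∀ k, Equiv.swap a (ρ a) k = k ∨ Equiv.swap a (ρ a) k = ρ k)
    (hZ : ∀ z ∈ Z, z = 1 ∨ z = blk (fun _ => -1)) {w : G} (hw : w ∈ Wr P T)
    (h : ∀ r ∈ R1 P T ρ hc hρ, w * r * w⁻¹ * r⁻¹ ∈ Z) : w ∈ R1 P T ρ hc hρ := by
  obtain ⟨g, τ, hg, hτ, rfl⟩ := Cfsg.Agent.H763.Psa.Psp.exists_mem_wr hw
  refine mem_R1 ⟨hg, hτ, fun k hk => ⟨?_, ?_⟩⟩
  · by_contra hcon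
    rw [not_or] at hcon
    obtain ⟨ε, hε, h1, -⟩ := z_conj hZ (h _ (mem_R1 (pr_good hρ rfl H.i_mem (a := k))))
    have h3 := h1 (τ k)
    rw [inv_one, mul_one, mul_inv_cancel, Equiv.symm_apply_apply, pr_a, pr_ne hcon.1 hcon.2, mul_one] at h3
    exact H.conj_ne h2 hε h3
  · obtain ⟨ε, hε, h1, h3⟩ := z_conj hZ (h _ (mem_R1 (swap_good (hsw k).1 (hsw k).2)))
    have h4 := h1 k
    have h5 : τ * (Equiv.swap k (ρ k))⁻¹ * τ⁻¹ = Equiv.swap k (ρ k) := by
      have h6 : (Equiv.swap k (ρ k))⁻¹ = Equiv.swap k (ρ k) := Equiv.swap_inv _ _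
      rw [h6, h3]
    rw [h5, Equiv.swap_apply_left, Pi.one_apply, Pi.one_apply, mul_one, mul_one, mul_inv_eq_iff_eq_mul] at h4
    rcases hε with h' | h'
    · left; rw [h4, h', one_mul]
    · right; rw [h4, h', neg_mul, one_mul, neg_neg]

/-- the subgroup `R₂ = P^m` -/
def R2 (m : ℕ) (P : Subgroup (Matrix.SpecialLinearGroup (Fin 2) F)) : Subgroup (Matrix.symplecticGroup (Fin m) F) :=
  (Subgroup.pi Set.univ (fun _ : Fin m => P)).map blk

theorem mem_R2 {g : Fin m → SL} (h : ∀ k, g k ∈ P) : (blk g : G) ∈ R2 m P :=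
  mem_map_of_mem _ fun k _ => h k

theorem mem_R2_iff {x : G} : x ∈ R2 m P ↔ ∃ g : Fin m → SL, (∀ k, g k ∈ P) ∧ x = blk g := by
  constructor
  · rintro ⟨g, hg, rfl⟩
    exact ⟨g, fun k => hg k (Set.mem_univ _), rfl⟩
  · rintro ⟨g, hg, rfl⟩
    exact mem_R2 hg

theorem R2_le : R2 m P ≤ Wr P T := by
  intro x hx
  obtain ⟨g, hg, rfl⟩ := mem_R2_iff.1 hx
  exact blk_mem hg

theorem R2_centric (h2 : (2 : F) ≠ 0) {i j : SL} (H : Q8 P i j)
    (hZ : ∀ z ∈ Z, z = 1 ∨ z = blk (fun _ => -1)) {w : G} (hw : w ∈ Wr P T)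
    (h : ∀ r ∈ R2 m P, w * r * w⁻¹ * r⁻¹ ∈ Z) : w ∈ R2 m P := by
  obtain ⟨g, τ, hg, hτ, rfl⟩ := Cfsg.Agent.H763.Psa.Psp.exists_mem_wr hw
  have h3 : τ = 1 := by
    ext k
    congr 1
    change τ k = k
    by_contra hcon
    have hm : (blk (Pi.mulSingle k i) * pmh 1 : G) ∈ R2 m P := by
      rw [map_one, mul_one]
      refine mem_R2 fun l => ?_
      by_cases hl : l = k
      · rw [hl, Pi.mulSingle_eq_same]; exact H.i_mem
      · rw [Pi.mulSingle_eq_of_ne hl]; exact P.one_mem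
    obtain ⟨ε, hε, h1, -⟩ := z_conj hZ (h _ hm)
    have h3 := h1 (τ k)
    rw [inv_one, mul_one, mul_inv_cancel, Equiv.symm_apply_apply, Pi.mulSingle_eq_same,
      Pi.mulSingle_eq_of_ne hcon, mul_one] at h3
    exact H.conj_ne h2 hε h3
  rw [h3, map_one, mul_one]
  exact mem_R2 hg

theorem blk_mem_normalizer_R2 [Finite F] {g : Fin m → SL} (h : ∀ k, g k ∈ normalizer (P : Set SL)) :
    (blk g : G) ∈ normalizer (R2 m P : Set G) := by
  refine mem_normalizer_of_forall fun x hx => ?_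
  obtain ⟨g', hg', rfl⟩ := mem_R2_iff.1 hx
  rw [← map_mul, ← map_inv, ← map_mul]
  exact mem_R2 fun k => (mem_normalizer_iff.1 (h k) _).1 (hg' k)

theorem pmh_mem_normalizer_R2 [Finite F] (σ : Equiv.Perm (Fin m)) :
    (pmh σ : G) ∈ normalizer (R2 m P : Set G) := by
  refine mem_normalizer_of_forall fun x hx => ?_
  obtain ⟨g', hg', rfl⟩ := mem_R2_iff.1 hx
  rw [pmh_blk]
  exact mem_R2 fun k => hg' _

theorem wr_le_normalizer_R2 [Finite F] : Wr P T ≤ normalizer (R2 m P : Set G) := by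
  intro w hw
  obtain ⟨g, τ, hg, hτ, rfl⟩ := Cfsg.Agent.H763.Psa.Psp.exists_mem_wr hw
  exact mul_mem (blk_mem_normalizer_R2 fun k => le_normalizer (hg k)) (pmh_mem_normalizer_R2 τ)

end Centric

/-! ### `wE` normalizes `R₁` -/

theorem half_i (h2 : (2 : F) ≠ 0) {P : Subgroup SL} {i j : SL} (H : Q8 P i j) {q : SL} (hq : q ∈ P) :
    ∃ q' ∈ P, ((2⁻¹ : F) • (1 + (i : M2))) * (q : M2) = (q' : M2) * ((2⁻¹ : F) • (1 + (i : M2))) := by
  have _ := h2
  obtain ⟨A, hA⟩ : ∃ A : M2, A = (i : M2) := ⟨_, rfl⟩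
  obtain ⟨B, hB⟩ : ∃ B : M2, B = (j : M2) := ⟨_, rfl⟩
  have e1 : A * A = -1 := by
    have := congrArg (fun x : SL => (x : M2)) H.ii
    simpa [hA] using this
  have e3 : B * A = -(A * B) := by
    have := congrArg (fun x : SL => (x : M2)) H.ji
    simpa [hA, hB] using this
  have e4 : A * B * A = B := by
    rw [mul_assoc, e3, mul_neg, ← mul_assoc, e1]; simp
  have e6 : A * (A * B) = -B := by
    rw [← mul_assoc, e1]; simp
  have key : ∀ X X' : M2, X + A * X = X' + X' * A → ((2⁻¹ : F) • (1 + A)) * X = X' * ((2⁻¹ : F) • (1 + A)) := by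
    intro X X' h
    rw [smul_mul_assoc, mul_smul_comm, add_mul, one_mul, mul_add, mul_one, h]
  rcases H.el q hq with h | h | h | h | h | h | h | h
  · exact ⟨1, P.one_mem, by rw [h]; simp⟩
  · exact ⟨-1, H.neg_one_mem, by rw [h]; simp⟩
  · refine ⟨i, H.i_mem, ?_⟩
    rw [h, ← hA]
    exact key _ _ rfl
  · refine ⟨-i, H.neg_mem H.i_mem, ?_⟩
    rw [h, Matrix.SpecialLinearGroup.coe_neg, ← hA]
    exact key _ _ (by rw [mul_neg, neg_mul])
  · refine ⟨i * j, H.k_mem, ?_⟩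
    rw [h, Matrix.SpecialLinearGroup.coe_mul, ← hA, ← hB]
    exact key _ _ (by rw [e4, add_comm])
  · refine ⟨-(i * j), H.neg_mem H.k_mem, ?_⟩
    rw [h, Matrix.SpecialLinearGroup.coe_neg, Matrix.SpecialLinearGroup.coe_neg, Matrix.SpecialLinearGroup.coe_mul,
      ← hA, ← hB]
    exact key _ _ (by rw [mul_neg, neg_mul, e4, add_comm])
  · refine ⟨-j, H.neg_mem H.j_mem, ?_⟩
    rw [h, Matrix.SpecialLinearGroup.coe_neg, Matrix.SpecialLinearGroup.coe_mul, ← hA, ← hB]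
    exact key _ _ (by rw [neg_mul, e3, e6, neg_neg, add_comm])
  · refine ⟨j, H.j_mem, ?_⟩
    rw [h, Matrix.SpecialLinearGroup.coe_neg, Matrix.SpecialLinearGroup.coe_mul, ← hA, ← hB]
    exact key _ _ (by rw [mul_neg, e6, e3, neg_neg, add_comm])

theorem half_sq (h2 : (2 : F) ≠ 0) {i : SL} (h : i * i = -1) :
    (2 : F) • (((2⁻¹ : F) • (1 + (i : M2))) * ((2⁻¹ : F) • (1 + (i : M2)))) = (i : M2) := by
  obtain ⟨A, hA⟩ : ∃ A : M2, A = (i : M2) := ⟨_, rfl⟩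
  have e1 : A * A = -1 := by
    have := congrArg (fun x : SL => (x : M2)) h
    simpa [hA] using this
  have h4 : (2 : F) * 2⁻¹ = 1 := mul_inv_cancel₀ h2
  rw [← hA, smul_mul_assoc, mul_smul_comm, smul_smul, smul_smul, h4, one_mul]
  have e2 : (1 + A) * (1 + A) = (2 : F) • A := by
    simp only [add_mul, mul_add, one_mul, mul_one, e1, two_smul]
    abel
  rw [e2, smul_smul, mul_comm, h4, one_smul]

section WE

variable {P : Subgroup (Matrix.SpecialLinearGroup (Fin 2) F)} {T : Subgroup (Equiv.Perm (Fin m))}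
  {ρ : Equiv.Perm (Fin m)} {hc : ∀ τ ∈ T, τ * ρ = ρ * τ} {hρ : ρ * ρ = 1}

theorem mem_R1_blk {g : Fin m → SL} (h : Good P T ρ g 1) : (blk g : G) ∈ R1 P T ρ hc hρ := by
  have := mem_R1 (hc := hc) (hρ := hρ) h
  rwa [map_one, mul_one] at this

theorem mem_R1_pmh {s : Equiv.Perm (Fin m)} (hs : s ∈ T) (h : ∀ k, s k = k ∨ s k = ρ k) :
    (pmh s : G) ∈ R1 P T ρ hc hρ := by
  have := mem_R1 (P := P) (hc := hc) (hρ := hρ) (swap_good hs h)
  rwa [map_one, one_mul] at this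

theorem wE_mem_normalizer [Finite F] {i j : SL} (H : Q8 P i j) {N : M2} (hN : 2 * N.det = 1)
    (hq : ∀ q ∈ P, ∃ q' ∈ P, N * (q : M2) = (q' : M2) * N) {a b : Fin m} (hab : a ≠ b) (h1 : ρ a = b) (h2 : ρ b = a)
    (hs : Equiv.swap a b ∈ T) (hsk : ∀ k, Equiv.swap a b k = k ∨ Equiv.swap a b k = ρ k) :
    (wE hN hab : G) ∈ normalizer (R1 P T ρ hc hρ : Set G) := by
  have hn := H.neg_one_mem
  refine mem_normalizer_of_forall ?_
  -- the elements moved into `R₁`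
  let S : Subgroup G := (R1 P T ρ hc hρ).comap (MulAut.conj (wE hN hab)).toMonoidHom
  have hS : ∀ x : G, x ∈ S ↔ wE hN hab * x * (wE hN hab)⁻¹ ∈ R1 P T ρ hc hρ := fun x => Iff.rfl
  have m1 : ∀ q ∈ P, (blk (pr a b q) : G) ∈ R1 P T ρ hc hρ := fun q hq => mem_R1_blk (pr_good hρ h1 hq)
  have m2 : (blk (Pi.mulSingle b (-1)) : G) ∈ R1 P T ρ hc hρ := mem_R1_blk (sign_good hn b)
  have m3 : (pmh (Equiv.swap a b) : G) ∈ R1 P T ρ hc hρ := mem_R1_pmh hs hsk
  have s1 : ∀ q ∈ P, (blk (pr a b q) : G) ∈ S := by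
    intro q hqP
    obtain ⟨q', hq', he⟩ := hq q hqP
    rw [hS, wE_blk hN hab he, mul_inv_cancel_right]
    exact m1 q' hq'
  have s2 : (blk (Pi.mulSingle b (-1)) : G) ∈ S := by
    rw [hS, wE_sign hN hab, mul_inv_cancel_right]
    exact mul_mem (m1 _ hn) m3
  have s3 : (pmh (Equiv.swap a b) : G) ∈ S := by
    rw [hS, wE_swap hN hab, mul_inv_cancel_right]
    exact m2
  have s4 : ∀ (g : Fin m → SL) (σ : Equiv.Perm (Fin m)), Good P T ρ g σ → g a = 1 → g b = 1 → σ a = a → σ b = b →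
      (blk g * pmh σ : G) ∈ S := by
    intro g σ hg ga gb sa sb
    rw [hS, wE_comm hN hab ga gb sa sb, mul_inv_cancel_right]
    exact mem_R1 hg
  have s5 : ∀ (g : Fin m → SL) (σ : Equiv.Perm (Fin m)), Good P T ρ g σ → g a = 1 → g b = 1 →
      (blk g * pmh σ : G) ∈ S := by
    intro g σ hg ga gb
    rcases (hg.2.2 a (by rw [h1]; exact hab.symm)).1 with h | h
    · refine s4 g σ hg ga gb h ?_
      rw [← h1, comm_apply hc hg.2.1, h]
    · rw [h1] at h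
      have hb : σ b = a := by rw [← h1, comm_apply hc hg.2.1, h, h2]
      have hss : Equiv.swap a b * Equiv.swap a b = 1 := Equiv.swap_mul_self a b
      have e1 : (blk g * pmh σ : G) = pmh (Equiv.swap a b) * (pmh (Equiv.swap a b) * (blk g * pmh σ)) := by
        rw [← mul_assoc, ← map_mul, hss, map_one, one_mul]
      have e2 : (pmh (Equiv.swap a b) * (blk g * pmh σ) : G) =
          blk (fun k => g ((Equiv.swap a b).symm k)) * pmh (Equiv.swap a b * σ) := by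
        have := wr_mul (1 : Fin m → SL) g (Equiv.swap a b) σ
        rw [map_one, one_mul, one_mul] at this
        exact this
      have e3 : Good P T ρ (fun k => g ((Equiv.swap a b).symm k)) (Equiv.swap a b * σ) := by
        rw [← mem_R1_iff (hc := hc) (hρ := hρ), ← e2]
        exact mul_mem m3 (mem_R1 hg)
      rw [e1, e2]
      refine mul_mem s3 (s4 _ _ e3 ?_ ?_ ?_ ?_)
      · rw [Equiv.symm_swap, Equiv.swap_apply_left, gb]
      · rw [Equiv.symm_swap, Equiv.swap_apply_right, ga]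
      · rw [Equiv.Perm.mul_apply, h, Equiv.swap_apply_right]
      · rw [Equiv.Perm.mul_apply, hb, Equiv.swap_apply_left]
  have s6 : ∀ (g : Fin m → SL) (σ : Equiv.Perm (Fin m)), Good P T ρ g σ → g a = 1 → (blk g * pmh σ : G) ∈ S := by
    intro g σ hg ga
    rcases (hg.2.2 a (by rw [h1]; exact hab.symm)).2 with h | h
    · exact s5 g σ hg ga (by rw [← h1, h, ga])
    · rw [h1, ga] at h
      have e1 : (blk g * pmh σ : G) = blk (Pi.mulSingle b (-1)) * (blk ((Pi.mulSingle b (-1))⁻¹ * g) * pmh σ) := by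
        rw [map_mul, map_inv]
        group
      have e3 : Good P T ρ ((Pi.mulSingle b (-1))⁻¹ * g) σ := by
        rw [← mem_R1_iff (hc := hc) (hρ := hρ), map_mul, map_inv, mul_assoc]
        exact mul_mem (inv_mem m2) (mem_R1 hg)
      rw [e1]
      refine mul_mem s2 (s5 _ _ e3 ?_ ?_)
      · rw [Pi.mul_apply, Pi.inv_apply, Pi.mulSingle_eq_of_ne hab, ga]; simp
      · rw [Pi.mul_apply, Pi.inv_apply, Pi.mulSingle_eq_same, h, inv_mul_cancel]
  rintro _ ⟨g, σ, hg, rfl⟩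
  rw [← hS]
  have e1 : (blk g * pmh σ : G) = blk (pr a b (g a)) * (blk ((pr a b (g a))⁻¹ * g) * pmh σ) := by
    rw [map_mul, map_inv]
    group
  have e3 : Good P T ρ ((pr a b (g a))⁻¹ * g) σ := by
    rw [← mem_R1_iff (hc := hc) (hρ := hρ), map_mul, map_inv, mul_assoc]
    exact mul_mem (inv_mem (m1 _ (hg.1 a))) (mem_R1 hg)
  rw [e1]
  refine mul_mem (s1 _ (hg.1 a)) (s6 _ _ e3 ?_)
  rw [Pi.mul_apply, Pi.inv_apply, pr_a, inv_mul_cancel]

theorem wE_mem_twoGen [Finite F] (hf : (2 : F) ≠ 0) (hW : IsPGroup 2 (Wr P T : Subgroup G)) {i j : SL} (H : Q8 P i j)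
    {a b : Fin m} (hab : a ≠ b) (h1 : ρ a = b) (h2 : ρ b = a)
    (hs : Equiv.swap a b ∈ T) (hsk : ∀ k, Equiv.swap a b k = k ∨ Equiv.swap a b k = ρ k) :
    (wE (det_half hf H.ii) hab : G) ∈ twoGen (R1 P T ρ hc hρ) := by
  refine subset_closure ⟨wE_mem_normalizer H _ (fun q hq => half_i hf H hq) hab h1 h2 hs hsk, ?_⟩
  have hsq : (wE (det_half hf H.ii) hab * wE (det_half hf H.ii) hab : G) ∈ R1 P T ρ hc hρ := by
    rw [wE_sq (det_half hf H.ii) hab (half_sq hf H.ii)]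
    exact mul_mem (mem_R1_blk (pr_good hρ h1 H.i_mem)) (mul_mem (mem_R1_pmh hs hsk)
      (mem_R1_blk (sign_good H.neg_one_mem a)))
  obtain ⟨k, hk⟩ := hW ⟨_, R1_le hsq⟩
  have hk' : (wE (det_half hf H.ii) hab * wE (det_half hf H.ii) hab : G) ^ 2 ^ k = 1 := congrArg Subtype.val hk
  refine ⟨k + 1, ?_⟩
  rw [pow_succ', pow_mul, pow_two, hk']

/-- the element `y` in the planes `a` and `ρ a` -/
theorem pr_mem_twoGen [Finite F] (hf : (2 : F) ≠ 0) (hW : IsPGroup 2 (Wr P T : Subgroup G)) {i j y : SL}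
    (H : Q8 P i j) (hy : (2 : F) • (((2⁻¹ : F) • (1 + (i : M2))) * ((2⁻¹ : F) • (1 + (j : M2)))) = (y : M2))
    {a b : Fin m} (hab : a ≠ b) (h1 : ρ a = b) (h2 : ρ b = a)
    (hs : Equiv.swap a b ∈ T) (hsk : ∀ k, Equiv.swap a b k = k ∨ Equiv.swap a b k = ρ k) :
    (blk (pr a b y) : G) ∈ twoGen (R1 P T ρ hc hρ) := by
  rw [← wE_mul_wE (det_half hf H.ii) (det_half hf H.jj) hab hy]
  refine mul_mem (wE_mem_twoGen hf hW H hab h1 h2 hs hsk) ?_
  exact wE_mem_twoGen hf hW H.symm hab.symm h2 h1 (by rwa [Equiv.swap_comm]) (by rwa [Equiv.swap_comm])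

end WE

end Cfsg.Agent.H747.PspRow
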