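import Cfsg.Agent.H747.PspOdd8
import Cfsg.Agent.H745.RowSp

/-!
# S5161: the row `PSp_2m(q)`, `q` odd (helper747, with helper745)
-/

set_option autoImplicit false

universe u

namespace Cfsg.Agent.H747.PspRow

open Matrix Subgroup Cfsg Cfsg.Agent.ClosedTwo.Psp

theorem card_sylow_eight {F : Type*} [Field F] [Fintype F] (h8 : Fintype.card F % 8 = 3 ∨ Fintype.card F % 8 = 5)
    (P : Sylow 2 (Matrix.SpecialLinearGroup (Fin 2) F)) : Nat.card P = 8 := by
  have hp : Fact (Nat.Prime 2) := ⟨Nat.prime_two⟩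
  obtain ⟨q, hq⟩ : ∃ q, q = Fintype.card F := ⟨_, rfl⟩
  rw [← hq] at h8
  obtain ⟨r, hr, hodd⟩ : ∃ r, q * (q ^ 2 - 1) = 2 ^ 3 * r ∧ Odd r := by
    rcases h8 with h | h
    · obtain ⟨k, rfl⟩ : ∃ k, q = 8 * k + 3 := ⟨q / 8, by omega⟩
      refine ⟨(8 * k + 3) * (8 * k ^ 2 + 6 * k + 1), ?_, ?_⟩
      · have : (8 * k + 3) ^ 2 - 1 = 8 * (8 * k ^ 2 + 6 * k + 1) := by
          rw [Nat.sub_eq_iff_eq_add (Nat.one_le_pow _ _ (by omega))]; ring
        rw [this]; ring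
      · exact Odd.mul ⟨4 * k + 1, by ring⟩ ⟨4 * k ^ 2 + 3 * k, by ring⟩
    · obtain ⟨k, rfl⟩ : ∃ k, q = 8 * k + 5 := ⟨q / 8, by omega⟩
      refine ⟨(8 * k + 5) * (8 * k ^ 2 + 10 * k + 3), ?_, ?_⟩
      · have : (8 * k + 5) ^ 2 - 1 = 8 * (8 * k ^ 2 + 10 * k + 3) := by
          rw [Nat.sub_eq_iff_eq_add (Nat.one_le_pow _ _ (by omega))]; ring
        rw [this]; ring
      · exact Odd.mul ⟨4 * k + 2, by ring⟩ ⟨4 * k ^ 2 + 5 * k + 1, by ring⟩
  have hcard : Nat.card (Matrix.SpecialLinearGroup (Fin 2) F) = 2 ^ 3 * r := by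
    rw [Cfsg.Agent.S0276.card_sl_two rfl, ← hq, hr]
  rw [Sylow.card_eq_multiplicity, hcard, Nat.factorization_mul (by norm_num) hodd.pos.ne', Finsupp.add_apply,
    Nat.Prime.factorization_pow Nat.prime_two, Finsupp.single_eq_same,
    Nat.factorization_eq_zero_of_not_dvd (fun h => (Nat.not_even_iff_odd.2 hodd) (even_iff_two_dvd.2 h))]
  norm_num

theorem row_psp_odd {F : Type*} [Field F] [Fintype F] (hF : Odd (Fintype.card F)) {m : ℕ} (hm : 2 ≤ m) :
    RowTwo (PSp m F) := by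
  have h8 : Fintype.card F % 8 = 1 ∨ Fintype.card F % 8 = 7 ∨ Fintype.card F % 8 = 3 ∨ Fintype.card F % 8 = 5 := by
    rw [Nat.odd_iff] at hF
    omega
  have key : Fintype.card F % 8 = 3 ∨ Fintype.card F % 8 = 5 → RowTwo (PSp m F) := by
    intro h
    let P : Sylow 2 (Matrix.SpecialLinearGroup (Fin 2) F) := default
    let T : Sylow 2 (Equiv.Perm (Fin m)) := default
    obtain ⟨W, hW⟩ := exists_sylow_wr hF m P T
    refine Or.inl (oddRow_eight hF hm P T (card_sylow_eight h P) fun w hw ho => ?_)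
    exact Cfsg.Agent.H745.RowSp.mem_range_of_odd_wr hF P (T : Subgroup (Equiv.Perm (Fin m))) W hW.symm.le
      ⟨0, by omega⟩ (by rw [hW]; exact hw) ho
  rcases h8 with h | h | h | h
  · exact Cfsg.Agent.H745.RowSp.row_PSp (by omega) (Or.inl h)
  · exact Cfsg.Agent.H745.RowSp.row_PSp (by omega) (Or.inr h)
  · exact key (Or.inl h)
  · exact key (Or.inr h)

/-- **The row `PSp_2m(q)`, `q` odd, `m ≥ 2`.** -/
theorem row_psp : ∀ (K : Type u) [Group K] [Finite K] [IsSimpleGroup K] (F : Type) [Field F] [Fintype F] (m : ℕ),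
    Odd (Fintype.card F) → 2 ≤ m → Nonempty (K ≃* PSp m F) → RowTwo K := by
  intro K _ _ _ F _ _ m hF hm he
  obtain ⟨e⟩ := he
  exact (row_psp_odd hF hm).congr e.symm

end Cfsg.Agent.H747.PspRow
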