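import Cfsg.Agent.H757.Constr
import Cfsg.Agent.H759.FusSolvable
import Cfsg.Agent.H747.RowTwo

/-!
# Quasisimple systems are not contained in solvable groups (helper747, S5161)

* `false_of_chain` : a quasisimple system has no chain of invariant subgroups with abelian factors;
* `false_of_solvable` : the maps of a quasisimple system over `U` are not all conjugations in a group `X` with a
  homomorphism onto a solvable group which is injective on `U`;
* `false_of_normRow` : the maps of a quasisimple system over `U ≤ T` are not all conjugations in `K`, `T` Sylow in `K`,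
  `K/Z(K)` a `NormRow`.
-/

set_option autoImplicit false

namespace Cfsg.Agent.H747

open Subgroup Cfsg Cfsg.FusionSystem Cfsg.Agent.H802
open scoped commutatorElement

variable {Ω : Type*} [Group Ω]

theorem false_of_chain {p : ℕ} [Fact p.Prime] {U : Subgroup Ω} [Finite U] (hU : IsPGroup p U) {C : FusionSystem U}
    (hC : C.Quasisimple p) (n : ℕ) (R : ℕ → Subgroup Ω) (h0 : R 0 ⊓ U = ⊥) (hn : U ≤ R n)
    (hmono : ∀ i, R i ≤ R (i + 1))
    (hcl : ∀ (i : ℕ) (P : Subgroup Ω) (φ : P →* Ω), φ ∈ C.Hom P → ∀ x : P, (x : Ω) ∈ R i → φ x ∈ R i)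
    (hcomm : ∀ i, ⁅R (i + 1), R (i + 1)⁆ ≤ R i) : False := by
  have h1 : H759.HasChain C ⊥ := by
    refine ⟨n, fun i => R i ⊓ U, h0, inf_eq_right.2 hn, fun i => ⟨inf_le_right, ?_⟩, fun i => ?_, fun i => ?_⟩
    · intro P hP φ hφ x
      exact ⟨hcl i P φ hφ x (hP x.2).1, hom_apply_mem hφ x⟩
    · exact inf_le_inf_right _ (hmono i)
    · refine Subgroup.commutator_le.2 fun a ha b hb => ⟨hcomm i (Subgroup.commutator_mem_commutator ha.1 hb.1), ?_⟩
      rw [commutatorElement_def]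
      exact U.mul_mem (U.mul_mem (U.mul_mem ha.2 hb.2) (U.inv_mem ha.2)) (U.inv_mem hb.2)
  exact H757.not_component_of_constrained hU (H759.isConstrained_of_hasChain hU hC.1 h1)
    ⟨IsSubnormalIn.refl C p, hC⟩

theorem false_of_solvable {p : ℕ} [Fact p.Prime] {U : Subgroup Ω} [Finite U] (hU : IsPGroup p U) {C : FusionSystem U}
    (hC : C.Quasisimple p) (X : Subgroup Ω) (hUX : U ≤ X)
    (hX : ∀ (P : Subgroup Ω) (φ : P →* Ω), φ ∈ C.Hom P → ∃ g ∈ X, ∀ x : P, φ x = g * x * g⁻¹)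
    {Y : Type*} [Group Y] [Group.IsSolvable Y] (π : X →* Y) (hπ : ∀ x : X, (x : Ω) ∈ U → π x = 1 → x = 1) : False := by
  obtain ⟨n, hn⟩ := (Group.isSolvable_def Y).1 inferInstance
  refine false_of_chain hU hC n (fun i => ((derivedSeries Y (n - i)).comap π).map X.subtype) ?_ ?_ ?_ ?_ ?_
  · rw [eq_bot_iff]
    rintro _ ⟨⟨x, hx, rfl⟩, hxU⟩
    have h1 : π x ∈ derivedSeries Y (n - 0) := hx
    rw [Nat.sub_zero, hn, Subgroup.mem_bot] at h1
    rw [hπ x hxU h1]
    rfl
  · intro x hx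
    refine ⟨⟨x, hUX hx⟩, ?_, rfl⟩
    show π _ ∈ derivedSeries Y (n - n)
    rw [Nat.sub_self]
    trivial
  · intro i
    refine Subgroup.map_mono (Subgroup.comap_mono (derivedSeries_antitone Y ?_))
    omega
  · rintro i P φ hφ x ⟨y, hy, he⟩
    obtain ⟨g, hg, hgx⟩ := hX P φ hφ
    refine ⟨⟨g, hg⟩ * y * ⟨g, hg⟩⁻¹, ?_, ?_⟩
    · show π _ ∈ derivedSeries Y (n - i)
      rw [map_mul, map_mul, map_inv]
      exact (derivedSeries_normal Y (n - i)).conj_mem _ hy _
    · rw [hgx x, ← he]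
      rfl
  · intro i
    rw [← Subgroup.map_commutator]
    refine Subgroup.map_mono ?_
    rw [Subgroup.commutator_le]
    intro a ha b hb
    show π ⁅a, b⁆ ∈ derivedSeries Y (n - i)
    rw [map_commutatorElement]
    have h1 : ⁅π a, π b⁆ ∈ ⁅derivedSeries Y (n - (i + 1)), derivedSeries Y (n - (i + 1))⁆ :=
      Subgroup.commutator_mem_commutator ha hb
    by_cases hi : i < n
    · have h2 : n - i = (n - (i + 1)) + 1 := by omega
      rw [h2, derivedSeries_succ]
      exact h1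
    · have h2 : n - i = 0 := by omega
      rw [h2]
      trivial

/-- `NormRow` for every Sylow 2-subgroup. -/
theorem NormRow.all {G : Type*} [Group G] [Finite G] (h : NormRow G) (S : Sylow 2 G) (P : Subgroup G) (g : G)
    (hP : P ≤ (S : Subgroup G)) (hg : ∀ x ∈ P, g * x * g⁻¹ ∈ (S : Subgroup G)) :
    ∃ n ∈ normalizer ((S : Subgroup G) : Set G), ∀ x ∈ P, g * x * g⁻¹ = n * x * n⁻¹ := by
  have hp : Fact (Nat.Prime 2) := ⟨Nat.prime_two⟩
  obtain ⟨T, hT⟩ := h
  obtain ⟨a, ha⟩ := MulAction.exists_smul_eq G T S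
  have hST : (S : Subgroup G) = (T : Subgroup G).map (MulAut.conj a).toMonoidHom := by
    rw [← ha]; rfl
  have memS : ∀ x : G, MulAut.conj a x ∈ (S : Subgroup G) ↔ x ∈ (T : Subgroup G) := fun x => by
    rw [hST]; exact mem_map_equiv' (MulAut.conj a) _ x
  obtain ⟨n, hn, hnx⟩ := hT (P.comap (MulAut.conj a).toMonoidHom) (a⁻¹ * g * a)
    (fun x hx => (memS x).1 (hP hx)) (fun x hx => by
      rw [← memS]
      have h1 := hg _ hx
      have h2 : MulAut.conj a (a⁻¹ * g * a * x * (a⁻¹ * g * a)⁻¹) = g * (MulAut.conj a x) * g⁻¹ := by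
        simp only [MulAut.conj_apply]
        group
      rw [h2]
      exact h1)
  refine ⟨MulAut.conj a n, ?_, fun x hx => ?_⟩
  · rw [hST, normalizer_map_equiv]
    exact (mem_map_equiv' _ _ n).2 hn
  · have h1 : a⁻¹ * x * a ∈ P.comap (MulAut.conj a).toMonoidHom := by
      show a * (a⁻¹ * x * a) * a⁻¹ ∈ P
      have : a * (a⁻¹ * x * a) * a⁻¹ = x := by group
      rw [this]; exact hx
    have h2 := hnx _ h1
    simp only [MulAut.conj_apply]
    calc g * x * g⁻¹ = a * ((a⁻¹ * g * a) * (a⁻¹ * x * a) * (a⁻¹ * g * a)⁻¹) * a⁻¹ := by group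
      _ = a * (n * (a⁻¹ * x * a) * n⁻¹) * a⁻¹ := by rw [h2]
      _ = a * n * a⁻¹ * x * (a * n * a⁻¹)⁻¹ := by group

/-- the normalizer of `T` normalizes the derived series of `T` -/
theorem conj_mem_derivedSeries {G : Type*} [Group G] {T : Subgroup G} {n : G} (hn : n ∈ normalizer (T : Set G))
    (j : ℕ) {x : G} (hx : x ∈ (derivedSeries T j).map T.subtype) : n * x * n⁻¹ ∈ (derivedSeries T j).map T.subtype := by
  obtain ⟨y, hy, rfl⟩ := hx
  obtain ⟨α, hα⟩ := exists_aut hn
  refine ⟨α y, ?_, hα y⟩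
  have h1 : (derivedSeries T j).Characteristic := inferInstance
  have h2 := Subgroup.characteristic_iff_map_eq.1 h1 α
  rw [← h2]
  exact ⟨y, hy, rfl⟩

theorem false_of_normRow {U : Subgroup Ω} [Finite U] (hU : IsPGroup 2 U) {C : FusionSystem U}
    (hC : C.Quasisimple 2) (K : Subgroup Ω) [Finite K] (T : Sylow 2 K)
    (hUT : ∀ x ∈ U, ∃ h : x ∈ K, (⟨x, h⟩ : K) ∈ (T : Subgroup K))
    (hX : ∀ (P : Subgroup Ω) (φ : P →* Ω), φ ∈ C.Hom P → ∃ g ∈ K, ∀ x : P, φ x = g * x * g⁻¹)
    (hrow : NormRow (K ⧸ center K)) : False := by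
  have hp : Fact (Nat.Prime 2) := ⟨Nat.prime_two⟩
  obtain ⟨π, hπ⟩ : ∃ π : K →* K ⧸ center K, π = QuotientGroup.mk' (center K) := ⟨_, rfl⟩
  have hπs : Function.Surjective π := by rw [hπ]; exact QuotientGroup.mk'_surjective _
  obtain ⟨T', hT'⟩ : ∃ T' : Sylow 2 (K ⧸ center K), (T' : Subgroup (K ⧸ center K)) = (T : Subgroup K).map π :=
    ⟨T.mapSurjective hπs, rfl⟩
  have hsol : Group.IsSolvable (T' : Subgroup (K ⧸ center K)) := by
    have := T'.2.isNilpotent
    infer_instance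
  obtain ⟨n, hn⟩ := (Group.isSolvable_def _).1 hsol
  let D : ℕ → Subgroup (K ⧸ center K) := fun j => (derivedSeries (T' : Subgroup (K ⧸ center K)) j).map
    (T' : Subgroup (K ⧸ center K)).subtype
  have hD0 : D 0 = (T' : Subgroup (K ⧸ center K)) := by
    show (derivedSeries _ 0).map _ = _
    rw [derivedSeries_zero, ← MonoidHom.range_eq_map, Subgroup.range_subtype]
  have hDn : D n = ⊥ := by
    show (derivedSeries _ n).map _ = _
    rw [hn, Subgroup.map_bot]
  have hDs : ∀ j, D (j + 1) = ⁅D j, D j⁆ := fun j => by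
    show (derivedSeries _ (j + 1)).map _ = _
    rw [derivedSeries_succ, Subgroup.map_commutator]
  have hDanti : ∀ j, D (j + 1) ≤ D j := fun j =>
    Subgroup.map_mono (derivedSeries_antitone _ (Nat.le_succ j))
  let Q : ℕ → Subgroup K := fun j => (D j).comap π ⊓ (T : Subgroup K)
  refine false_of_chain hU hC (n + 1)
    (fun i => Nat.rec ⊥ (fun j _ => (Q (n - j)).map K.subtype) i) ?_ ?_ ?_ ?_ ?_
  · exact bot_inf_eq U
  · intro x hx
    obtain ⟨h, hxT⟩ := hUT x hx
    refine ⟨⟨x, h⟩, ⟨?_, hxT⟩, rfl⟩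
    show π _ ∈ D (n - n)
    rw [Nat.sub_self, hD0, hT']
    exact ⟨_, hxT, rfl⟩
  · intro i
    cases i with
    | zero => exact bot_le
    | succ i =>
      refine Subgroup.map_mono (inf_le_inf_right _ (Subgroup.comap_mono ?_))
      by_cases hi : i < n
      · have h2 : n - i = (n - (i + 1)) + 1 := by omega
        rw [h2]
        exact hDanti _
      · have h2 : n - i = n - (i + 1) := by omega
        rw [h2]
  · intro i P φ hφ x hx
    cases i with
    | zero =>
      have hx1 : (x : Ω) = 1 := Subgroup.mem_bot.1 hx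
      have hx2 : x = 1 := Subtype.ext hx1
      rw [hx2, map_one]
      exact one_mem _
    | succ i =>
      obtain ⟨⟨y, hyK⟩, ⟨hyD, hyT⟩, he⟩ := hx
      obtain ⟨g, hg, hgx⟩ := hX P φ hφ
      have he' : y = x := he
      -- the image is in `T`
      have hPU : P ≤ U := hom_le hφ
      obtain ⟨h1, h2⟩ := hUT (φ x) (hom_apply_mem hφ x)
      have h3 : (⟨φ x, h1⟩ : K) = ⟨g, hg⟩ * ⟨y, hyK⟩ * ⟨g, hg⟩⁻¹ := by
        apply Subtype.ext
        show φ x = g * y * g⁻¹
        rw [hgx x, he']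
      refine ⟨⟨φ x, h1⟩, ⟨?_, h2⟩, rfl⟩
      show π _ ∈ D (n - i)
      have hyD' : π ⟨y, hyK⟩ ∈ D (n - i) := hyD
      -- use the row for the cyclic group generated by the image of `y`
      obtain ⟨m, hm, hmx⟩ := hrow.all T' (zpowers (π ⟨y, hyK⟩)) (π ⟨g, hg⟩) (by
        rw [zpowers_le, hT']; exact ⟨_, hyT, rfl⟩) (by
        rintro _ ⟨k, rfl⟩
        show π ⟨g, hg⟩ * π ⟨y, hyK⟩ ^ k * (π ⟨g, hg⟩)⁻¹ ∈ _
        rw [← conj_zpow]
        refine zpow_mem ?_ k
        rw [← map_inv, ← map_mul, ← map_mul, ← h3, hT']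
        exact ⟨_, h2, rfl⟩)
      rw [h3, map_mul, map_mul, map_inv, hmx _ (mem_zpowers _)]
      exact conj_mem_derivedSeries hm _ hyD'
  · intro i
    cases i with
    | zero =>
      refine Subgroup.commutator_le.2 ?_
      rintro _ ⟨a, ⟨ha, haT⟩, rfl⟩ _ ⟨b, ⟨hb, hbT⟩, rfl⟩
      have ha' : π a ∈ D (n - 0) := ha
      rw [Nat.sub_zero, hDn, Subgroup.mem_bot, hπ] at ha'
      have ha2 : a ∈ center K := (QuotientGroup.eq_one_iff a).1 ha'
      have h1 := mem_center_iff.1 ha2 b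
      show ⁅(a : Ω), (b : Ω)⁆ ∈ (⊥ : Subgroup Ω)
      rw [Subgroup.mem_bot, commutatorElement_eq_one_iff_mul_comm]
      exact (congrArg Subtype.val h1).symm
    | succ i =>
      show ⁅(Q (n - (i + 1))).map K.subtype, (Q (n - (i + 1))).map K.subtype⁆ ≤ (Q (n - i)).map K.subtype
      rw [← Subgroup.map_commutator]
      refine Subgroup.map_mono (Subgroup.commutator_le.2 fun a ha b hb => ⟨?_, ?_⟩)
      · show π ⁅a, b⁆ ∈ D (n - i)
        rw [map_commutatorElement]
        have h1 : ⁅π a, π b⁆ ∈ ⁅D (n - (i + 1)), D (n - (i + 1))⁆ :=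
          Subgroup.commutator_mem_commutator ha.1 hb.1
        rw [← hDs] at h1
        by_cases hi : i < n
        · have h2 : n - i = (n - (i + 1)) + 1 := by omega
          rw [h2]
          exact h1
        · have h2 : n - i = n - (i + 1) := by omega
          rw [h2]
          exact hDanti _ h1
      · rw [commutatorElement_def]
        exact (T : Subgroup K).mul_mem ((T : Subgroup K).mul_mem ((T : Subgroup K).mul_mem ha.2 hb.2)
          ((T : Subgroup K).inv_mem ha.2)) ((T : Subgroup K).inv_mem hb.2)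

end Cfsg.Agent.H747
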