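import Cfsg.Agent.H747.Wreath
import Cfsg.Agent.Lib.FrattiniPGroup
import Cfsg.Agent.Lib.NormalAbelian
import Mathlib.GroupTheory.Frattini
import Mathlib.GroupTheory.Nilpotent
import Mathlib.GroupTheory.PGroup

/-!
# Tate's theorem for fusion systems, from a characteristic monomial `S`-set (helper747)

* `IsCharMono F p c`: the monomial `S`-set `(Y, c)` is a cocycle, generated by `F`, stable under `F`, and `|Y|`
  is prime to `p`.
* `exists_extend`: every `S`-invariant homomorphism `hyp(F) → A`, `A` an abelian group of exponent `p`, extends to `S`.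
* `tate`: `Φ(S) foc(F) = Φ(S) foc(H)` implies `hyp(F) = hyp(H)` (`H ≤ F`, `F` saturated with a characteristic
  monomial set).
-/

set_option autoImplicit false

namespace Cfsg.Agent.H747

open scoped commutatorElement
open Cfsg Cfsg.FusionSystem Cfsg.Agent.H802

universe v

variable {Ω : Type*} [Group Ω] {S : Subgroup Ω}

/-- The monomial `S`-set `(Y, c)` is characteristic for the fusion system. -/
structure IsCharMono (F : FusionSystem S) (p : ℕ) {Y : Type*} [MulAction S Y] (c : S → Y → S) : Prop where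
  fin : Finite Y
  cocycle : IsCocycle c
  stable : IsStableMono F c
  gen : IsGenMono F c
  card : ¬ p ∣ Nat.card Y

section

variable {A : Type*} [AddCommGroup A]

/-- A function on `S`, additive on `hyp(F)` and invariant there under the maps of the system, with values in a group
without elements of order prime to `p`, vanishes on `hyp(F)`. -/
theorem eq_zero_of_invariant {F : FusionSystem S} {p : ℕ} [Fact p.Prime]
    (f : S → A) (hf : ∀ a b : S, (a : Ω) ∈ F.hyperfocalSubgroup p → (b : Ω) ∈ F.hyperfocalSubgroup p →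
      f (a * b) = f a + f b)
    (hA : ∀ (n : ℕ) (a : A), n.Coprime p → n • a = 0 → a = 0)
    (hinv : ∀ (P : Subgroup Ω) (φ : P →* Ω), φ ∈ F.Hom P → ∀ (g : P) (gs hs : S), (gs : Ω) = g →
      (hs : Ω) = φ g → (gs : Ω) ∈ F.hyperfocalSubgroup p → (hs : Ω) ∈ F.hyperfocalSubgroup p → f hs = f gs) :
    ∀ t : S, (t : Ω) ∈ F.hyperfocalSubgroup p → f t = 0 := by
  set T := F.hyperfocalSubgroup p with hT
  have hTS : T ≤ S := hyperfocal_le_base F p
  have hf1 : f 1 = 0 := by
    have := hf 1 1 T.one_mem T.one_mem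
    rw [one_mul] at this
    have h2 : f 1 + 0 = f 1 + f 1 := by rw [add_zero]; exact this
    exact (add_left_cancel h2).symm
  have hfinv : ∀ a : S, (a : Ω) ∈ T → f a⁻¹ = - f a := by
    intro a ha
    have := hf a a⁻¹ ha (T.inv_mem ha)
    rw [mul_inv_cancel, hf1] at this
    exact (neg_eq_of_add_eq_zero_right this.symm).symm
  have hSN : ∀ s ∈ S, ∀ t ∈ T, s * t * s⁻¹ ∈ T := fun s hs t ht =>
    (Subgroup.mem_normalizer_iff.1 (le_normalizer_hyperfocal F p hs) t).1 ht
  have hfS : ∀ s t : S, (t : Ω) ∈ T → f (s * t * s⁻¹) = f t := by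
    intro s t ht
    exact hinv S (conjHom S s) (F.conj_mem le_rfl s.2) t t (s * t * s⁻¹) rfl rfl ht
      (hSN s s.2 t ht)
  -- the generators
  have key : ∀ (P : Subgroup Ω) (hP : P ≤ S), ∀ α ∈ F.autGroup P, (orderOf α).Coprime p →
      ∀ x : P, ∀ t : S, (t : Ω) = (x : Ω)⁻¹ * (α x : P) → f t = 0 := by
    intro P hP α hα ho
    let ι : P → S := fun x => ⟨x, hP x.2⟩
    have hι : ∀ x y, ι (x * y) = ι x * ι y := fun x y => rfl
    have hιi : ∀ x, ι x⁻¹ = (ι x)⁻¹ := fun x => rfl
    let D : P → A := fun x => f ((ι x)⁻¹ * ι (α x))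
    have hmem : ∀ x : P, (((ι x)⁻¹ * ι (α x) : S) : Ω) ∈ T := fun x =>
      hyperfocal_mem_of_coprime hP hα ho x
    -- `D` is additive
    have hD : ∀ x y, D (x * y) = D x + D y := by
      intro x y
      show f ((ι (x * y))⁻¹ * ι (α (x * y))) = f ((ι x)⁻¹ * ι (α x)) + f ((ι y)⁻¹ * ι (α y))
      have h1 : (ι (x * y))⁻¹ * ι (α (x * y)) =
          ((ι y)⁻¹ * ((ι x)⁻¹ * ι (α x)) * (ι y)⁻¹⁻¹) * ((ι y)⁻¹ * ι (α y)) := by
        rw [map_mul, hι, hι]
        group
      have h2 : (((ι y)⁻¹ * ((ι x)⁻¹ * ι (α x)) * (ι y)⁻¹⁻¹ : S) : Ω) ∈ T :=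
        hSN _ (ι y)⁻¹.2 _ (hmem x)
      rw [h1, hf _ _ h2 (hmem y), hfS _ _ (hmem x)]
    -- `f (α z) = f z` for `z` in `P ∩ T`
    have hα' := (mem_autGroup_iff F hP α).1 hα
    have hfα : ∀ z : P, (z : Ω) ∈ T → ((α z : P) : Ω) ∈ T → f (ι (α z)) = f (ι z) := by
      intro z hz hz'
      exact hinv P _ hα' z (ι z) (ι (α z)) rfl rfl hz hz'
    -- `α` preserves `P ∩ T`
    have hαT : ∀ z : P, (z : Ω) ∈ T → ((α z : P) : Ω) ∈ T := by
      intro z hz
      have := T.mul_mem hz (hmem z)
      have e : (z : Ω) * (((ι z)⁻¹ * ι (α z) : S) : Ω) = (α z : P) := by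
        show (z : Ω) * ((z : Ω)⁻¹ * (α z : P)) = (α z : P)
        group
      rwa [e] at this
    intro x t ht
    have ht' : t = (ι x)⁻¹ * ι (α x) := Subtype.ext ht
    have hDx : f t = D x := by rw [ht']
    rw [hDx]
    -- sum over the powers of `α`
    have hsum : ∀ n : ℕ, f ((ι x)⁻¹ * ι ((α ^ n) x)) = n • D x ∧ (((ι x)⁻¹ * ι ((α ^ n) x) : S) : Ω) ∈ T ∧
        ∀ z : P, (z : Ω) ∈ T → ((((α ^ n) z : P) : Ω) ∈ T ∧ f (ι ((α ^ n) z)) = f (ι z)) := by
      intro n
      induction n with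
      | zero =>
        refine ⟨?_, ?_, fun z hz => ⟨?_, ?_⟩⟩
        · simp [hf1]
        · simp
        · simpa using hz
        · simp
      | succ n ih =>
        obtain ⟨ih1, ih2, ih3⟩ := ih
        have h1 : (ι x)⁻¹ * ι ((α ^ (n + 1)) x) =
            ((ι x)⁻¹ * ι ((α ^ n) x)) * ι ((α ^ n) (x⁻¹ * α x)) := by
          have e1 : (α ^ (n + 1)) x = (α ^ n) (α x) := by rw [pow_succ]; rfl
          rw [e1, map_mul, hι, map_inv, hιi]
          group
        have hz : ((x⁻¹ * α x : P) : Ω) ∈ T := hmem x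
        obtain ⟨h2, h3⟩ := ih3 _ hz
        refine ⟨?_, ?_, fun z hz => ?_⟩
        · rw [h1, hf _ _ ih2 h2, ih1, h3, succ_nsmul]
          rfl
        · rw [h1]
          exact T.mul_mem ih2 h2
        · have e1 : (α ^ (n + 1)) z = α ((α ^ n) z) := by rw [pow_succ']; rfl
          obtain ⟨h4, h5⟩ := ih3 z hz
          rw [e1]
          exact ⟨hαT _ h4, (hfα _ h4 (hαT _ h4)).trans h5⟩
    obtain ⟨h1, -, -⟩ := hsum (orderOf α)
    rw [pow_orderOf_eq_one] at h1
    have h2 : (ι x)⁻¹ * ι ((1 : MulAut P) x) = 1 := by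
      show (ι x)⁻¹ * ι x = 1
      group
    rw [h2, hf1] at h1
    exact hA _ _ ho h1.symm
  intro t ht
  -- induction over the closure
  have hcl : ∀ u ∈ T, ∀ hu : u ∈ S, f ⟨u, hu⟩ = 0 := by
    let K : Subgroup Ω :=
      { carrier := {u | u ∈ T ∧ ∀ hu : u ∈ S, f ⟨u, hu⟩ = 0}
        mul_mem' := by
          rintro a b ⟨ha, ha'⟩ ⟨hb, hb'⟩
          refine ⟨T.mul_mem ha hb, fun hu => ?_⟩
          have := hf ⟨a, hTS ha⟩ ⟨b, hTS hb⟩ ha hb
          rw [ha', hb', add_zero] at this
          exact this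
        one_mem' := ⟨T.one_mem, fun _ => hf1⟩
        inv_mem' := by
          rintro a ⟨ha, ha'⟩
          refine ⟨T.inv_mem ha, fun hu => ?_⟩
          have := hfinv ⟨a, hTS ha⟩ ha
          rw [ha', neg_zero] at this
          exact this }
    have hle : T ≤ K := hyperfocal_le fun P hP α hα ho x =>
      ⟨hyperfocal_mem_of_coprime hP hα ho x, fun hu => key P hP α hα ho x ⟨_, hu⟩ rfl⟩
    exact fun u hu => (hle hu).2
  exact hcl t ht t.2

/-- **Extension theorem.** Every `S`-invariant homomorphism `hyp(F) → A`, `A` an abelian group of exponent `p`,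
extends to a homomorphism on `S`. -/
theorem exists_extend {F : FusionSystem S} {p : ℕ} [hp : Fact p.Prime] [Finite S]
    (hS : IsPGroup p S) (hF : F.IsSaturated p) {Y : Type*} [MulAction S Y] {c : S → Y → S}
    (hc : IsCharMono F p c) (hA : ∀ a : A, p • a = 0) (f : S → A)
    (hf : ∀ a b : S, (a : Ω) ∈ F.hyperfocalSubgroup p → (b : Ω) ∈ F.hyperfocalSubgroup p →
      f (a * b) = f a + f b)
    (hfS : ∀ s t : S, (t : Ω) ∈ F.hyperfocalSubgroup p → f (s * t * s⁻¹) = f t) :
    ∃ g : S → A, (∀ a b, g (a * b) = g a + g b) ∧ ∀ t : S, (t : Ω) ∈ F.hyperfocalSubgroup p → g t = f t := by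
  classical
  have hfinY := hc.fin
  have hft : Fintype Y := Fintype.ofFinite Y
  set T : Subgroup S := (F.hyperfocalSubgroup p).subgroupOf S with hT
  have hTn : T.Normal := by
    refine ⟨fun t ht s => ?_⟩
    rw [hT, Subgroup.mem_subgroupOf] at ht ⊢
    exact (Subgroup.mem_normalizer_iff.1 (le_normalizer_hyperfocal F p s.2) t).1 ht
  obtain ⟨k, hk⟩ := exists_grading (c := c) hc.cocycle hc.gen T (fun P φ hφ => by
    obtain ⟨b, hb, h⟩ := exists_inner_mod hS hF (le_normalizer_hyperfocal F p) le_rfl P φ hφ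
    refine ⟨⟨b, hb⟩, fun x xs ys hx hy => ?_⟩
    rw [hT, Subgroup.mem_subgroupOf]
    show (b * (xs : Ω) * b⁻¹)⁻¹ * (ys : Ω) ∈ _
    rw [hx, hy]
    exact h x)
  set c' : S → Y → S := fun s y => k (s • y) * c s y * (k y)⁻¹ with hc'
  have hcoc : IsCocycle c' := hc.cocycle.twist k
  have hst : IsStableMono F c' := hc.stable.twist k
  have hgr : ∀ s y, s⁻¹ * c' s y ∈ T := hk
  have hf' : ∀ a ∈ T, ∀ b ∈ T, f (a * b) = f a + f b := fun a ha b hb => hf a b ha hb
  have hfS' : ∀ s : S, ∀ t ∈ T, f (s * t * s⁻¹) = f t := fun s t ht => hfS s t ht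
  obtain ⟨g, hg1, hg2⟩ := exists_hom_of_graded hcoc T hgr f hf' hfS'
  have hcT : ∀ s ∈ T, ∀ y, c' s y ∈ T := by
    intro s hs y
    have h := T.mul_mem hs (hgr s y)
    have e : s * (s⁻¹ * c' s y) = c' s y := by group
    rwa [e] at h
  -- the transferred homomorphism vanishes on `hyp(F)`
  have hzero : ∀ t : S, (t : Ω) ∈ F.hyperfocalSubgroup p → ∑ y : Y, f (c' t y) = 0 := by
    refine eq_zero_of_invariant (F := F) (p := p) (fun t => ∑ y : Y, f (c' t y)) ?_ ?_ ?_
    · intro a b ha hb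
      show ∑ y : Y, f (c' (a * b) y) = ∑ y : Y, f (c' a y) + ∑ y : Y, f (c' b y)
      have h1 : ∀ y : Y, f (c' (a * b) y) = f (c' a (b • y)) + f (c' b y) := by
        intro y
        rw [hcoc]
        exact hf' _ (hcT a ha _) _ (hcT b hb _)
      rw [Finset.sum_congr rfl (fun y _ => h1 y), Finset.sum_add_distrib]
      congr 1
      exact Fintype.sum_equiv (MulAction.toPerm b) _ _ (fun y => rfl)
    · intro n a hn ha
      obtain ⟨u, v, huv⟩ : ∃ u v : ℤ, (n : ℤ) * u + (p : ℤ) * v = 1 := by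
        have := Nat.gcd_eq_gcd_ab n p
        rw [hn.gcd_eq_one] at this
        exact ⟨_, _, by exact_mod_cast this.symm⟩
      have h1 : a = ((n : ℤ) * u + (p : ℤ) * v) • a := by rw [huv, one_smul]
      have h2 : (n : ℤ) • a = 0 := by rw [natCast_zsmul]; exact ha
      have h3 : (p : ℤ) • a = 0 := by rw [natCast_zsmul]; exact hA a
      rw [h1, add_smul, mul_comm (n : ℤ), mul_comm (p : ℤ), mul_smul, mul_smul, h2, h3, smul_zero,
        smul_zero, add_zero]
    · intro P φ hφ x gs hs hg hh hgT hhT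
      exact transfer_invariant hst T hgr f hf' hfS' hφ x gs hs hg hh hgT hhT
  -- divide by `- |Y|`
  have hn : (Fintype.card Y).Coprime p := by
    rw [← Nat.card_eq_fintype_card]
    exact ((Nat.Prime.coprime_iff_not_dvd hp.out).2 hc.card).symm
  obtain ⟨u, v, huv⟩ : ∃ u v : ℤ, (Fintype.card Y : ℤ) * u + (p : ℤ) * v = 1 := by
    have := Nat.gcd_eq_gcd_ab (Fintype.card Y) p
    rw [hn.gcd_eq_one] at this
    exact ⟨_, _, by exact_mod_cast this.symm⟩
  refine ⟨fun s => (-u) • g s, fun a b => ?_, fun t ht => ?_⟩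
  · show (-u) • g (a * b) = (-u) • g a + (-u) • g b
    rw [hg1, smul_add]
  · show (-u) • g t = f t
    have h1 := hg2 t ht
    rw [hzero t ht] at h1
    have h2 : g t = -((Fintype.card Y : ℤ) • f t) := by
      rw [natCast_zsmul]
      exact (neg_eq_of_add_eq_zero_right h1.symm).symm
    have h3 : (p : ℤ) • f t = 0 := by rw [natCast_zsmul]; exact hA _
    have h4 : f t = ((Fintype.card Y : ℤ) * u + (p : ℤ) * v) • f t := by rw [huv, one_smul]
    rw [h2, smul_neg, neg_smul, neg_neg, ← mul_smul]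
    conv_rhs => rw [h4]
    rw [add_smul, mul_comm (p : ℤ), mul_smul v, h3, smul_zero, add_zero, mul_comm u]

/-- In a finite `p`-group, `H < K` normal: there is a homomorphism from `K` to an abelian group of exponent `p`,
invariant in the whole group, trivial on `H` and not on `K`. -/
theorem exists_invariant_hom {G : Type v} [Group G] [Finite G] {p : ℕ} [hp : Fact p.Prime]
    (hG : IsPGroup p G) {K H : Subgroup G} (hK : K.Normal) (hH : H.Normal) (hlt : H < K) :
    ∃ (B : Type v) (_ : AddCommGroup B) (f : G → B), (∀ a : B, p • a = 0) ∧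
      (∀ a ∈ K, ∀ b ∈ K, f (a * b) = f a + f b) ∧ (∀ s, ∀ t ∈ K, f (s * t * s⁻¹) = f t) ∧
      (∀ h ∈ H, f h = 0) ∧ ∃ k ∈ K, f k ≠ 0 := by
  classical
  -- a maximal normal subgroup `M` with `H ≤ M < K`
  obtain ⟨M, hHM, hM⟩ := Set.Finite.exists_le_maximal (Set.toFinite {M : Subgroup G | M.Normal ∧ M < K})
    (show H ∈ {M : Subgroup G | M.Normal ∧ M < K} from ⟨hH, hlt⟩)
  have hMn : M.Normal := hM.prop.1
  have hMK : M < K := hM.prop.2
  set q := QuotientGroup.mk' M with hq
  have hqs : Function.Surjective q := QuotientGroup.mk'_surjective M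
  have hGp : IsPGroup p (G ⧸ M) := hG.to_quotient M
  have hnil : Group.IsNilpotent (G ⧸ M) := hGp.isNilpotent
  have hKn : (K.map q).Normal := hK.map q hqs
  have hKne : K.map q ≠ ⊥ := by
    intro h
    rw [Subgroup.map_eq_bot_iff, QuotientGroup.ker_mk'] at h
    exact absurd h (not_le_of_gt hMK)
  -- maximality
  have hmax : ∀ L : Subgroup (G ⧸ M), L.Normal → L ≤ K.map q → L ≠ ⊥ → L = K.map q := by
    intro L hL hLK hLne
    by_contra hne
    have h1 : (L.comap q).Normal := hL.comap q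
    have h2 : L.comap q < K := by
      have h3 : (K.map q).comap q = K := by
        rw [Subgroup.comap_map_eq, QuotientGroup.ker_mk', sup_eq_left]
        exact hMK.le
      refine lt_of_le_of_ne ?_ ?_
      · rw [← h3]
        exact Subgroup.comap_mono hLK
      · intro h
        apply hne
        rw [← h, Subgroup.map_comap_eq_self_of_surjective hqs]
    have h3 : M ≤ L.comap q := by
      intro x hx
      have : q x = 1 := by
        rw [← MonoidHom.mem_ker, QuotientGroup.ker_mk']; exact hx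
      rw [Subgroup.mem_comap, this]
      exact L.one_mem
    have h4 : L.comap q ≤ M := hM.2 ⟨h1, h2⟩ h3
    apply hLne
    rw [eq_bot_iff, ← Subgroup.map_comap_eq_self_of_surjective hqs L, Subgroup.map_le_iff_le_comap]
    intro x hx
    rw [Subgroup.mem_comap, Subgroup.mem_bot, ← MonoidHom.mem_ker, QuotientGroup.ker_mk']
    exact h4 hx
  -- `K / M` is central
  have hKc : K.map q ≤ Subgroup.center (G ⧸ M) := by
    have h1 := Cfsg.Agent.Lib.NormalAbelian.normal_inf_center_ne_bot (K.map q) hKne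
    have h2 := hmax (K.map q ⊓ Subgroup.center (G ⧸ M)) inferInstance inf_le_left h1
    rw [← h2]
    exact inf_le_right
  -- `K / M` has exponent `p`
  have hKp : ∀ x ∈ K.map q, x ^ p = 1 := by
    by_contra hcon
    push Not at hcon
    obtain ⟨x₀, hx₀, hx₀1⟩ := hcon
    let L : Subgroup (G ⧸ M) :=
      { carrier := {y | ∃ x ∈ K.map q, x ^ p = y}
        mul_mem' := by
          rintro _ _ ⟨a, ha, rfl⟩ ⟨b, hb, rfl⟩
          refine ⟨a * b, (K.map q).mul_mem ha hb, ?_⟩
          have hab : Commute a b := (Subgroup.mem_center_iff.1 (hKc ha) b).symm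
          exact hab.mul_pow p
        one_mem' := ⟨1, (K.map q).one_mem, one_pow p⟩
        inv_mem' := by
          rintro _ ⟨a, ha, rfl⟩
          exact ⟨a⁻¹, (K.map q).inv_mem ha, inv_pow a p⟩ }
    have hLK : L ≤ K.map q := by
      rintro _ ⟨x, hx, rfl⟩
      exact (K.map q).pow_mem hx p
    have hLn : L.Normal := by
      refine ⟨fun y hy g => ?_⟩
      have := Subgroup.mem_center_iff.1 (hKc (hLK hy)) g
      have e : g * y * g⁻¹ = y := by rw [this]; group
      rwa [e]
    have hLne : L ≠ ⊥ := by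
      intro h
      have : x₀ ^ p ∈ L := ⟨x₀, hx₀, rfl⟩
      rw [h, Subgroup.mem_bot] at this
      exact hx₀1 this
    have hL := hmax L hLn hLK hLne
    -- surjective, hence injective
    let φ : K.map q → K.map q := fun x => ⟨x ^ p, (K.map q).pow_mem x.2 p⟩
    have hφs : Function.Surjective φ := by
      rintro ⟨y, hy⟩
      rw [← hL] at hy
      obtain ⟨x, hx, hxy⟩ := hy
      exact ⟨⟨x, hx⟩, Subtype.ext hxy⟩
    have hφi : Function.Injective φ := Finite.injective_iff_surjective.2 hφs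
    have hdvd : p ∣ Nat.card (K.map q) := by
      have hKpg : IsPGroup p (K.map q) := hGp.to_subgroup _
      obtain ⟨n, hn⟩ := hKpg.exists_card_eq
      rcases Nat.eq_zero_or_pos n with h0 | h0
      · exfalso
        apply hKne
        rw [h0, pow_zero] at hn
        exact Subgroup.card_eq_one.mp hn
      · rw [hn]
        exact dvd_pow_self p (by omega)
    obtain ⟨z, hz⟩ := exists_prime_orderOf_dvd_card' (G := K.map q) p hdvd
    have h1 : φ z = φ 1 := by
      apply Subtype.ext
      show (z : G ⧸ M) ^ p = (1 : G ⧸ M) ^ p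
      have := pow_orderOf_eq_one z
      rw [hz] at this
      rw [one_pow]
      exact congrArg Subtype.val this
    have h2 := hφi h1
    rw [h2, orderOf_one] at hz
    exact hp.out.one_lt.ne hz
  -- the target
  let E : Subgroup (G ⧸ M) :=
    { carrier := {x | x ∈ Subgroup.center (G ⧸ M) ∧ x ^ p = 1}
      mul_mem' := by
        rintro a b ⟨ha, ha'⟩ ⟨hb, hb'⟩
        refine ⟨(Subgroup.center (G ⧸ M)).mul_mem ha hb, ?_⟩
        have hab : Commute a b := (Subgroup.mem_center_iff.1 ha b).symm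
        rw [hab.mul_pow, ha', hb', one_mul]
      one_mem' := ⟨(Subgroup.center (G ⧸ M)).one_mem, one_pow p⟩
      inv_mem' := by
        rintro a ⟨ha, ha'⟩
        refine ⟨(Subgroup.center (G ⧸ M)).inv_mem ha, ?_⟩
        rw [inv_pow, ha', inv_one] }
  let _ : CommGroup E :=
    { (inferInstance : Group E) with
      mul_comm := fun a b => Subtype.ext (Subgroup.mem_center_iff.1 b.2.1 (a : G ⧸ M)) }
  have hE : ∀ t ∈ K, q t ∈ E := fun t ht => ⟨hKc ⟨t, ht, rfl⟩, hKp _ ⟨t, ht, rfl⟩⟩
  let f : G → Additive E := fun t => if h : t ∈ K then Additive.ofMul ⟨q t, hE t h⟩ else 0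
  have hf : ∀ t (h : t ∈ K), (((f t).toMul : E) : G ⧸ M) = q t := by
    intro t h
    show ((Additive.toMul (if h : t ∈ K then Additive.ofMul (⟨q t, hE t h⟩ : E) else 0) : E) :
      G ⧸ M) = q t
    rw [dif_pos h]
    rfl
  have hfe : ∀ (x y : Additive E), ((x.toMul : E) : G ⧸ M) = ((y.toMul : E) : G ⧸ M) → x = y := by
    intro x y h
    apply Additive.toMul.injective
    exact Subtype.ext h
  refine ⟨Additive E, inferInstance, f, fun a => ?_, fun a ha b hb => ?_, fun s t ht => ?_,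
    fun h hh => ?_, ?_⟩
  · apply Additive.toMul.injective
    exact Subtype.ext a.toMul.2.2
  · apply hfe
    rw [hf _ (K.mul_mem ha hb)]
    show q (a * b) = (((f a).toMul : E) : G ⧸ M) * (((f b).toMul : E) : G ⧸ M)
    rw [hf _ ha, hf _ hb, map_mul]
  · apply hfe
    rw [hf _ (hK.conj_mem t ht s), hf _ ht, map_mul, map_mul, map_inv]
    have := Subgroup.mem_center_iff.1 (hKc ⟨t, ht, rfl⟩ : q t ∈ _) (q s)
    rw [this]
    group
  · apply hfe
    have h1 : h ∈ M := hHM hh
    rw [hf _ (hMK.le h1)]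
    show q h = 1
    rw [← MonoidHom.mem_ker, QuotientGroup.ker_mk']
    exact h1
  · obtain ⟨k, hk, hkM⟩ := SetLike.exists_of_lt hMK
    refine ⟨k, hk, fun h => hkM ?_⟩
    have h1 := hf k hk
    rw [h] at h1
    rw [← QuotientGroup.ker_mk' M, MonoidHom.mem_ker, ← hq, ← h1]
    rfl

/-- **Tate's theorem**, key form: if `K` is normal in `S` and `K ≤ hyp(F) ≤ Φ(S) K` then `hyp(F) = K`. -/
theorem hyperfocal_eq_of_charMono {F : FusionSystem S} {p : ℕ} [hp : Fact p.Prime] [Finite S]
    (hS : IsPGroup p S) (hF : F.IsSaturated p)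
    {Y : Type*} [MulAction S Y] {c : S → Y → S} (hc : IsCharMono F p c) {K : Subgroup Ω}
    (hKn : S ≤ Subgroup.normalizer (K : Set Ω)) (hK : K ≤ F.hyperfocalSubgroup p)
    (h : F.hyperfocalSubgroup p ≤ (frattini ↥S).map S.subtype ⊔ K) :
    F.hyperfocalSubgroup p = K := by
  by_contra hne
  have hlt : K < F.hyperfocalSubgroup p := lt_of_le_of_ne hK (Ne.symm hne)
  have hKS : K ≤ S := hK.trans (hyperfocal_le_base F p)
  have hnorm : ∀ L : Subgroup Ω, S ≤ Subgroup.normalizer (L : Set Ω) → (L.subgroupOf S).Normal := by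
    intro L hL
    refine ⟨fun t ht s => ?_⟩
    rw [Subgroup.mem_subgroupOf] at ht ⊢
    exact (Subgroup.mem_normalizer_iff.1 (hL s.2) t).1 ht
  have hlt' : K.subgroupOf S < (F.hyperfocalSubgroup p).subgroupOf S := by
    refine lt_of_le_of_ne (Subgroup.comap_mono hK) fun he => hne ?_
    have h1 := congrArg (Subgroup.map S.subtype) he
    rw [Subgroup.map_subgroupOf_eq_of_le hKS,
      Subgroup.map_subgroupOf_eq_of_le (hyperfocal_le_base F p)] at h1
    exact h1.symm
  obtain ⟨B, hB, f, hBp, hf, hfS, hfH, k, hk, hfk⟩ :=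
    exists_invariant_hom hS (hnorm _ (le_normalizer_hyperfocal F p)) (hnorm K hKn) hlt'
  obtain ⟨g, hg, hgf⟩ := exists_extend hS hF hc hBp f (fun a b ha hb => hf a ha b hb)
    (fun s t ht => hfS s t ht)
  -- the kernel of `g`
  have hg1 : g 1 = 0 := by
    have := hg 1 1
    rw [one_mul] at this
    have h2 : g 1 + 0 = g 1 + g 1 := by rw [add_zero]; exact this
    exact (add_left_cancel h2).symm
  have hgi : ∀ a, g a⁻¹ = - g a := by
    intro a
    have := hg a a⁻¹
    rw [mul_inv_cancel, hg1] at this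
    exact (neg_eq_of_add_eq_zero_right this.symm).symm
  let N : Subgroup S :=
    { carrier := {s | g s = 0}
      mul_mem' := by
        intro a b (ha : g a = 0) (hb : g b = 0)
        show g (a * b) = 0
        rw [hg, ha, hb, add_zero]
      one_mem' := hg1
      inv_mem' := by
        intro a (ha : g a = 0)
        show g a⁻¹ = 0
        rw [hgi, ha, neg_zero] }
  have hNn : N.Normal := by
    refine ⟨fun a (ha : g a = 0) s => ?_⟩
    show g (s * a * s⁻¹) = 0
    rw [hg, hg, hgi, ha]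
    abel
  have hNcomm : ∀ a b : S, ⁅a, b⁆ ∈ N := by
    intro a b
    show g (a * b * a⁻¹ * b⁻¹) = 0
    rw [hg, hg, hg, hgi, hgi]
    abel
  have hgpow : ∀ (n : ℕ) (a : S), g (a ^ n) = n • g a := by
    intro n a
    induction n with
    | zero => simp [hg1]
    | succ n ih => rw [pow_succ, hg, ih, succ_nsmul]
  have hNpow : ∀ a : S, a ^ p ∈ N := by
    intro a
    show g (a ^ p) = 0
    rw [hgpow]
    exact hBp _
  have hΦ : frattini S ≤ N := Cfsg.Agent.Lib.FrattiniPGroup.frattini_le N hNcomm hNpow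
  have hHN : K ≤ N.map S.subtype := by
    intro x hx
    refine ⟨⟨x, hKS hx⟩, ?_, rfl⟩
    show g ⟨x, hKS hx⟩ = 0
    rw [hgf _ (hK hx)]
    exact hfH _ hx
  have hall : F.hyperfocalSubgroup p ≤ N.map S.subtype :=
    h.trans (sup_le (Subgroup.map_mono hΦ) hHN)
  obtain ⟨n, hn, hnk⟩ := hall hk
  have h1 : n = k := Subtype.ext hnk
  rw [h1] at hn
  apply hfk
  rw [← hgf k hk]
  exact hn

/-- **Tate's theorem for fusion systems**, given a characteristic monomial set. -/
theorem tate_of_charMono {F H : FusionSystem S} {p : ℕ} [hp : Fact p.Prime] [Finite S]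
    (hS : IsPGroup p S) (hF : F.IsSaturated p) (hH : H.IsSaturated p) (hle : H.IsSubsystemOf F)
    {Y : Type*} [MulAction S Y] {c : S → Y → S} (hc : IsCharMono F p c)
    (h : F.focalSubgroup ≤ (frattini ↥S).map S.subtype ⊔ H.focalSubgroup) :
    F.hyperfocalSubgroup p = H.hyperfocalSubgroup p := by
  have hKH : H.hyperfocalSubgroup p ≤ F.hyperfocalSubgroup p := by
    refine hyperfocal_le fun P hP α hα ho x => hyperfocal_mem_of_coprime hP ?_ ho x
    rw [mem_autGroup_iff F hP]
    exact hle P ((mem_autGroup_iff H hP α).1 hα)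
  refine hyperfocal_eq_of_charMono hS hF hc (le_normalizer_hyperfocal H p) hKH ?_
  refine (hyperfocal_le_focal F p).trans (h.trans ?_)
  rw [focal_eq hS hH]
  refine sup_le le_sup_left (sup_le le_sup_right ?_)
  refine le_trans ?_ le_sup_left
  rw [Subgroup.commutator_le]
  intro a ha b hb
  exact ⟨⁅(⟨a, ha⟩ : S), (⟨b, hb⟩ : S)⁆,
    Cfsg.Agent.Lib.FrattiniPGroup.commutator_mem_frattini hS _ _, rfl⟩

end

end Cfsg.Agent.H747
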