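import Cfsg.Prelude.Def_FusionSystem
import Cfsg.Agent.H747.Hyperfocal

/-!
# Monomial form of a characteristic biset, and graded transfer (helper747)

`F` a fusion system on the finite `p`-group `S`. A right free `S`-`S`-biset is the same thing as an `S`-set `Y`
together with a cocycle `c : S → Y → S`, `c (s t) y = c s (t y) * c t y` (the biset is `Y × S` with
`s (y, u) v = (s y, c s y * u * v)`). `IsChar F p Y c` says that this biset is `F`-generated, `F`-stable and has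
`|Y|` prime to `p`.

* `exists_grading`: for `hyp(F) ≤ T` normal in `S`, the cocycle may be changed so that `c s y ∈ s T`.
* `exists_hom_of_graded`: for an `S`-invariant homomorphism `f : T → A`, `∑ y, f (c t y) = |Y| f t + g t` with a
  homomorphism `g : S → A`.
-/

set_option autoImplicit false

namespace Cfsg.Agent.H747

open Cfsg Cfsg.FusionSystem Cfsg.Agent.H802

variable {Ω : Type*} [Group Ω] {S : Subgroup Ω}

/-- Cocycle identity. -/
def IsCocycle {Y : Type*} [MulAction S Y] (c : S → Y → S) : Prop :=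
  ∀ s t y, c (s * t) y = c s (t • y) * c t y

/-- Stability of the monomial `S`-set `(Y, c)` under the maps of the system. -/
def IsStableMono (F : FusionSystem S) {Y : Type*} [MulAction S Y] (c : S → Y → S) : Prop :=
  ∀ (P : Subgroup Ω) (φ : P →* Ω), φ ∈ F.Hom P → ∃ (e : Y ≃ Y) (d : Y → S),
    ∀ (g : P) (gs : S) (hs : S), (gs : Ω) = g → (hs : Ω) = φ g → ∀ y : Y,
      e (gs • y) = hs • e y ∧ c hs (e y) = d (gs • y) * c gs y * (d y)⁻¹

/-- The monomial `S`-set is generated by the maps of the system. -/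
def IsGenMono (F : FusionSystem S) {Y : Type*} [MulAction S Y] (c : S → Y → S) : Prop :=
  ∀ y : Y, ∃ (P : Subgroup Ω) (φ : P →* Ω), φ ∈ F.Hom P ∧
    ∀ s : S, s • y = y → ∃ hs : (s : Ω) ∈ P, (c s y : Ω) = φ ⟨s, hs⟩

section

variable {Y : Type*} [MulAction S Y] {c : S → Y → S}

theorem IsCocycle.one (hc : IsCocycle c) (y : Y) : c 1 y = 1 := by
  have h := hc 1 1 y
  rw [one_mul, one_smul] at h
  have h2 := congrArg (fun z => (c 1 y)⁻¹ * z) h
  simpa using h2.symm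

theorem IsCocycle.twist (hc : IsCocycle c) (k : Y → S) :
    IsCocycle (fun s y => k (s • y) * c s y * (k y)⁻¹) := by
  intro s t y
  show k ((s * t) • y) * c (s * t) y * (k y)⁻¹ =
    k (s • t • y) * c s (t • y) * (k (t • y))⁻¹ * (k (t • y) * c t y * (k y)⁻¹)
  rw [hc, mul_smul]
  group

theorem IsStableMono.twist {F : FusionSystem S} (h : IsStableMono F c) (k : Y → S) :
    IsStableMono F (fun s y => k (s • y) * c s y * (k y)⁻¹) := by
  intro P φ hφ
  obtain ⟨e, d, hed⟩ := h P φ hφ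
  refine ⟨e, fun y => k (e y) * d y * (k y)⁻¹, fun g gs hs hg hh y => ?_⟩
  obtain ⟨h1, h2⟩ := hed g gs hs hg hh y
  refine ⟨h1, ?_⟩
  show k (hs • e y) * c hs (e y) * (k (e y))⁻¹ =
    k (e (gs • y)) * d (gs • y) * (k (gs • y))⁻¹ * (k (gs • y) * c gs y * (k y)⁻¹) *
      (k (e y) * d y * (k y)⁻¹)⁻¹
  rw [h2, ← h1]
  group

/-- `c(s, y)` may be changed so as to lie in `s T` for all `s`, `y`, if all maps of the system are inner
modulo `T`. -/
theorem exists_grading {F : FusionSystem S} (hc : IsCocycle c) (hg : IsGenMono F c) (T : Subgroup S)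
    [hT : T.Normal]
    (hin : ∀ (P : Subgroup Ω) (φ : P →* Ω), φ ∈ F.Hom P → ∃ b : S, ∀ (x : P) (xs ys : S), (xs : Ω) = x →
      (ys : Ω) = φ x → (b * xs * b⁻¹)⁻¹ * ys ∈ T) :
    ∃ k : Y → S, ∀ s y, s⁻¹ * (k (s • y) * c s y * (k y)⁻¹) ∈ T := by
  classical
  -- base points
  let O := MulAction.orbitRel.Quotient S Y
  let base : Y → Y := fun y => (Quotient.mk (MulAction.orbitRel S Y) y).out
  have hbase : ∀ y, ∃ s : S, s • base y = y := by
    intro y
    have h : (MulAction.orbitRel S Y) (base y) y := Quotient.mk_out (s := MulAction.orbitRel S Y) y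
    rw [MulAction.orbitRel_apply] at h
    obtain ⟨s, hs⟩ := h
    exact ⟨s⁻¹, by rw [← hs]; simp⟩
  have hbase2 : ∀ (s : S) y, base (s • y) = base y := by
    intro s y
    show (Quotient.mk (MulAction.orbitRel S Y) (s • y)).out = _
    have : Quotient.mk (MulAction.orbitRel S Y) (s • y) = Quotient.mk (MulAction.orbitRel S Y) y := by
      apply Quotient.sound
      show (MulAction.orbitRel S Y) _ _
      rw [MulAction.orbitRel_apply]
      exact ⟨s, rfl⟩
    rw [this]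
  choose t ht using hbase
  have hb : ∀ y, ∃ b : S, ∀ s : S, s • base y = base y → (b * s * b⁻¹)⁻¹ * c s (base y) ∈ T := by
    intro y
    obtain ⟨P, φ, hφ, hP⟩ := hg (base y)
    obtain ⟨b, hb⟩ := hin P φ hφ
    refine ⟨b, fun s hs => ?_⟩
    obtain ⟨hsP, hc'⟩ := hP s hs
    exact hb ⟨s, hsP⟩ s _ rfl hc'
  -- the element attached to the base point only
  let B : Y → S := fun z => if h : ∃ b : S, ∀ s : S, s • z = z → (b * s * b⁻¹)⁻¹ * c s z ∈ T then h.choose else 1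
  have hB : ∀ y s, s • base y = base y → (B (base y) * s * (B (base y))⁻¹)⁻¹ * c s (base y) ∈ T := by
    intro y s hs
    have h := hb y
    show ((if h : ∃ b : S, ∀ s : S, s • base y = base y → (b * s * b⁻¹)⁻¹ * c s (base y) ∈ T
      then h.choose else 1) * s * (if h : ∃ b : S, ∀ s : S, s • base y = base y →
        (b * s * b⁻¹)⁻¹ * c s (base y) ∈ T then h.choose else 1)⁻¹)⁻¹ * c s (base y) ∈ T
    rw [dif_pos h]
    exact h.choose_spec s hs
  refine ⟨fun y => t y * (B (base y))⁻¹ * (c (t y) (base y))⁻¹, fun s y => ?_⟩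
  show s⁻¹ * (t (s • y) * (B (base (s • y)))⁻¹ * (c (t (s • y)) (base (s • y)))⁻¹ * c s y *
    (t y * (B (base y))⁻¹ * (c (t y) (base y))⁻¹)⁻¹) ∈ T
  have h1 : t (s • y) • base y = s • y := by
    have := ht (s • y)
    rwa [hbase2] at this
  set z := base y with hz
  rw [hbase2]
  -- `t (s y) = s (t y) g` with `g` in the stabiliser of `z`
  set g : S := (s * t y)⁻¹ * t (s • y) with hgdef
  have hgz : g • z = z := by
    rw [hgdef, mul_smul, h1, inv_smul_eq_iff, mul_smul, ht]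
  have hts : t (s • y) = s * t y * g := by rw [hgdef]; group
  have h2 : c (t (s • y)) z = c s y * c (t y) z * c g z := by
    rw [hts, hc, hc, hgz, ht]
  have h3 := hB y g hgz
  rw [← hz] at h3 ⊢
  rw [h2, hts]
  set b := B z
  set u := c (t y) z
  -- the element is `(t g b⁻¹ c(g)⁻¹ b t⁻¹)`
  have h4 : s⁻¹ * (s * t y * g * b⁻¹ * (c s y * u * c g z)⁻¹ * c s y * (t y * b⁻¹ * u⁻¹)⁻¹) =
      (t y * b⁻¹) * (b * g * b⁻¹ * (c g z)⁻¹) * (t y * b⁻¹)⁻¹ := by group
  rw [h4]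
  refine hT.conj_mem _ ?_ _
  have h5 := hT.conj_mem _ (T.inv_mem h3) (b * g * b⁻¹)
  have h6 : b * g * b⁻¹ * ((b * g * b⁻¹)⁻¹ * c g z)⁻¹ * (b * g * b⁻¹)⁻¹ =
      b * g * b⁻¹ * (c g z)⁻¹ := by group
  rwa [h6] at h5

end

/-- All maps of a saturated system are inner modulo a normal subgroup of `S` containing `hyp(F)`. -/
theorem exists_inner_mod {F : FusionSystem S} {p : ℕ} [Fact p.Prime] [Finite S]
    (hS : IsPGroup p S) (hF : F.IsSaturated p) {T : Subgroup Ω}
    (hTn : S ≤ Subgroup.normalizer (T : Set Ω)) (hT : F.hyperfocalSubgroup p ≤ T) :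
    ∀ (P : Subgroup Ω) (φ : P →* Ω), φ ∈ F.Hom P →
      ∃ b ∈ S, ∀ x : P, (b * (x : Ω) * b⁻¹)⁻¹ * φ x ∈ T := by
  have hconj : ∀ s ∈ S, ∀ t ∈ T, s * t * s⁻¹ ∈ T := fun s hs t ht =>
    (Subgroup.mem_normalizer_iff.1 (hTn hs) t).1 ht
  refine Cfsg.Agent.H759.saturated_induction F hS hF
    (fun P φ => ∃ b ∈ S, ∀ x : P, (b * (x : Ω) * b⁻¹)⁻¹ * φ x ∈ T) ?_ ?_ ?_ ?_
  · rintro P R φ χ _ ⟨b, hb, hM⟩ h he
    refine ⟨b, hb, fun x => ?_⟩
    rw [he x]
    exact hM ⟨x, h x.2⟩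
  · rintro P Q φ ψ χ hφ hψ ⟨b, hb, hM⟩ ⟨b', hb', hN⟩ he
    refine ⟨b' * b, S.mul_mem hb' hb, fun x => ?_⟩
    obtain ⟨h, hx⟩ := he x
    rw [hx]
    have h1 := hconj b' hb' _ (hM x)
    have h2 := hN ⟨φ x, h⟩
    have h3 := T.mul_mem h1 h2
    have h4 : b' * ((b * (x : Ω) * b⁻¹)⁻¹ * φ x) * b'⁻¹ * ((b' * φ x * b'⁻¹)⁻¹ * ψ ⟨φ x, h⟩) =
        (b' * b * (x : Ω) * (b' * b)⁻¹)⁻¹ * ψ ⟨φ x, h⟩ := by group
    rwa [h4] at h3
  · rintro P R φ χ hφ ⟨b, hb, hM⟩ hχ he
    refine ⟨b⁻¹, S.inv_mem hb, fun y => ?_⟩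
    obtain ⟨x, hx, hy⟩ := he y
    rw [hy, ← hx]
    have h1 := hconj b⁻¹ (S.inv_mem hb) _ (T.inv_mem (hM x))
    have h2 : b⁻¹ * ((b * (x : Ω) * b⁻¹)⁻¹ * φ x)⁻¹ * b⁻¹⁻¹ =
        (b⁻¹ * φ x * b⁻¹⁻¹)⁻¹ * x := by group
    rwa [h2] at h1
  · intro Q hQ _ _ α hα
    obtain ⟨β, hβ, γ, hγ, rfl⟩ := exists_mul_mem_residual hQ hα
    obtain ⟨g, hg, hge⟩ := (mem_autInducedBy_iff S Q γ).1 hγ
    refine ⟨g, hg, fun x => ?_⟩
    rw [← hge x]
    exact hT (hyperfocal_mem hQ.1 hβ (γ x))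

section graded

variable {Y : Type*} [MulAction S Y] {c : S → Y → S} {A : Type*} [AddCommGroup A]

/-- A homomorphism on a normal subgroup extends to a function on the group which is additive for right
multiplication by elements of the subgroup. -/
theorem exists_section {G : Type*} [Group G] (T : Subgroup G) (f : G → A)
    (hf : ∀ a ∈ T, ∀ b ∈ T, f (a * b) = f a + f b) :
    ∃ F0 : G → A, (∀ s, ∀ t ∈ T, F0 (s * t) = F0 s + f t) ∧ ∀ t ∈ T, F0 t = f t := by
  classical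
  let r : G → G := fun s => (QuotientGroup.mk s : G ⧸ T).out
  have hr : ∀ s, (r s)⁻¹ * s ∈ T := by
    intro s
    have h : (QuotientGroup.mk (r s) : G ⧸ T) = QuotientGroup.mk s := Quotient.out_eq _
    rwa [QuotientGroup.eq] at h
  have hr2 : ∀ s, ∀ t ∈ T, r (s * t) = r s := by
    intro s t ht
    have h : (QuotientGroup.mk (s * t) : G ⧸ T) = QuotientGroup.mk s := by
      rw [QuotientGroup.eq]
      have : (s * t)⁻¹ * s = t⁻¹ := by group
      rw [this]
      exact T.inv_mem ht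
    show (QuotientGroup.mk (s * t) : G ⧸ T).out = (QuotientGroup.mk s : G ⧸ T).out
    rw [h]
  refine ⟨fun s => f ((r s)⁻¹ * s) - f ((r 1)⁻¹ * 1), fun s t ht => ?_, fun t ht => ?_⟩
  · show f ((r (s * t))⁻¹ * (s * t)) - _ = f ((r s)⁻¹ * s) - _ + f t
    rw [hr2 s t ht, ← mul_assoc, hf _ (hr s) _ ht]
    abel
  · show f ((r t)⁻¹ * t) - f ((r 1)⁻¹ * 1) = f t
    have h1 : r t = r 1 := by
      have := hr2 1 t ht
      rwa [one_mul] at this
    have h2 : (r 1)⁻¹ * t = ((r 1)⁻¹ * 1) * t := by group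
    rw [h1, h2, hf _ (hr 1) _ ht]
    abel

variable [Fintype Y]

/-- **Graded transfer.** Let `T` be normal in `S`, `f` an `S`-invariant homomorphism on `T` and `c` a cocycle
with `c s y ∈ s T`. Then `∑ y, f (c t y) = |Y| f t + g t` for `t ∈ T` with a homomorphism `g : S → A`. -/
theorem exists_hom_of_graded (hc : IsCocycle c) (T : Subgroup S) [hT : T.Normal]
    (hgr : ∀ s y, s⁻¹ * c s y ∈ T) (f : S → A) (hf : ∀ a ∈ T, ∀ b ∈ T, f (a * b) = f a + f b)
    (hfS : ∀ s : S, ∀ t ∈ T, f (s * t * s⁻¹) = f t) :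
    ∃ g : S → A, (∀ a b, g (a * b) = g a + g b) ∧
      ∀ t ∈ T, ∑ y : Y, f (c t y) = Fintype.card Y • f t + g t := by
  obtain ⟨F0, hF0, hF0T⟩ := exists_section T f hf
  have hl : ∀ s, ∀ t ∈ T, F0 (t * s) = f t + F0 s := by
    intro s t ht
    have h1 : t * s = s * (s⁻¹ * t * s) := by group
    have h2 : s⁻¹ * t * s ∈ T := by
      have := hT.conj_mem t ht s⁻¹
      rwa [inv_inv] at this
    have h3 : f (s⁻¹ * t * s) = f t := by
      have := hfS s⁻¹ t ht
      rwa [inv_inv] at this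
    rw [h1, hF0 _ _ h2, h3, add_comm]
  -- the cocycle
  have hγ : ∀ s s' t t' : S, t ∈ T → t' ∈ T →
      F0 (s * t * (s' * t')) - F0 (s * t) - F0 (s' * t') = F0 (s * s') - F0 s - F0 s' := by
    intro s s' t t' ht ht'
    have h1 : s * t * (s' * t') = (s * s') * ((s'⁻¹ * t * s') * t') := by group
    have h2 : s'⁻¹ * t * s' ∈ T := by
      have := hT.conj_mem t ht s'⁻¹
      rwa [inv_inv] at this
    have h3 : f (s'⁻¹ * t * s') = f t := by
      have := hfS s'⁻¹ t ht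
      rwa [inv_inv] at this
    rw [h1, hF0 _ _ (T.mul_mem h2 ht'), hf _ h2 _ ht', h3, hF0 _ _ ht, hF0 _ _ ht']
    abel
  have hγ' : ∀ s s' u u' : S, s⁻¹ * u ∈ T → s'⁻¹ * u' ∈ T →
      F0 (u * u') = F0 u + F0 u' + (F0 (s * s') - F0 s - F0 s') := by
    intro s s' u u' hu hu'
    have h := hγ s s' _ _ hu hu'
    have e1 : s * (s⁻¹ * u) = u := by group
    have e2 : s' * (s'⁻¹ * u') = u' := by group
    rw [e1, e2] at h
    rw [← h]
    abel
  refine ⟨fun s => ∑ y : Y, F0 (c s y) - Fintype.card Y • F0 s, fun a b => ?_, fun t ht => ?_⟩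
  · show ∑ y : Y, F0 (c (a * b) y) - Fintype.card Y • F0 (a * b) =
      ∑ y : Y, F0 (c a y) - Fintype.card Y • F0 a + (∑ y : Y, F0 (c b y) - Fintype.card Y • F0 b)
    have h1 : ∑ y : Y, F0 (c (a * b) y) =
        ∑ y : Y, F0 (c a y) + ∑ y : Y, F0 (c b y) + Fintype.card Y • (F0 (a * b) - F0 a - F0 b) := by
      have h2 : ∀ y : Y, F0 (c (a * b) y) =
          F0 (c a (b • y)) + F0 (c b y) + (F0 (a * b) - F0 a - F0 b) := by
        intro y
        rw [hc]
        exact hγ' a b _ _ (hgr a _) (hgr b y)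
      rw [Finset.sum_congr rfl (fun y _ => h2 y), Finset.sum_add_distrib, Finset.sum_add_distrib,
        Finset.sum_const, Finset.card_univ]
      congr 2
      exact Fintype.sum_equiv (MulAction.toPerm b) _ _ (fun y => rfl)
    rw [h1, smul_sub, smul_sub]
    abel
  · show ∑ y : Y, f (c t y) = Fintype.card Y • f t + (∑ y : Y, F0 (c t y) - Fintype.card Y • F0 t)
    have h1 : ∀ y : Y, F0 (c t y) = f (c t y) := by
      intro y
      apply hF0T
      have h := T.mul_mem ht (hgr t y)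
      have e : t * (t⁻¹ * c t y) = c t y := by group
      rwa [e] at h
    rw [Finset.sum_congr rfl (fun y _ => h1 y), hF0T t ht]
    abel

/-- The graded transfer of an `S`-invariant homomorphism is invariant under the maps of the system. -/
theorem transfer_invariant {F : FusionSystem S} (hst : IsStableMono F c) (T : Subgroup S)
    [hT : T.Normal] (hgr : ∀ s y, s⁻¹ * c s y ∈ T) (f : S → A)
    (hf : ∀ a ∈ T, ∀ b ∈ T, f (a * b) = f a + f b) (hfS : ∀ s : S, ∀ t ∈ T, f (s * t * s⁻¹) = f t)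
    {P : Subgroup Ω} {φ : P →* Ω} (hφ : φ ∈ F.Hom P) (g : P) (gs hs : S) (hg : (gs : Ω) = g)
    (hh : (hs : Ω) = φ g) (hgT : gs ∈ T) (hhT : hs ∈ T) :
    ∑ y : Y, f (c hs y) = ∑ y : Y, f (c gs y) := by
  obtain ⟨e, d, hed⟩ := hst P φ hφ
  obtain ⟨F0, hF0, hF0T⟩ := exists_section T f hf
  have hl : ∀ s, ∀ t ∈ T, F0 (t * s) = f t + F0 s := by
    intro s t ht
    have h1 : t * s = s * (s⁻¹ * t * s) := by group
    have h2 : s⁻¹ * t * s ∈ T := by
      have := hT.conj_mem t ht s⁻¹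
      rwa [inv_inv] at this
    have h3 : f (s⁻¹ * t * s) = f t := by
      have := hfS s⁻¹ t ht
      rwa [inv_inv] at this
    rw [h1, hF0 _ _ h2, h3, add_comm]
  have hcT : ∀ s ∈ T, ∀ y, c s y ∈ T := by
    intro s hs y
    have h := T.mul_mem hs (hgr s y)
    have e : s * (s⁻¹ * c s y) = c s y := by group
    rwa [e] at h
  have h1 : ∑ y : Y, f (c hs y) = ∑ y : Y, f (c hs (e y)) :=
    (Fintype.sum_equiv e _ _ (fun y => rfl)).symm
  rw [h1]
  have h2 : ∀ y : Y, f (c hs (e y)) = F0 (d (gs • y)) - F0 (d y) + f (c gs y) := by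
    intro y
    obtain ⟨-, h3⟩ := hed g gs hs hg hh y
    have h4 : c hs (e y) ∈ T := hcT _ hhT _
    have h5 : c gs y ∈ T := hcT _ hgT _
    -- `d (g y) d(y)⁻¹ ∈ T`
    have h6 : d y * c gs y * (d y)⁻¹ ∈ T := hT.conj_mem _ h5 _
    have h7 : c hs (e y) * (d y * c gs y * (d y)⁻¹)⁻¹ = d (gs • y) * (d y)⁻¹ := by
      rw [h3]; group
    have h8 : d (gs • y) * (d y)⁻¹ ∈ T := by
      rw [← h7]
      exact T.mul_mem h4 (T.inv_mem h6)
    have h9 : c hs (e y) = (d (gs • y) * (d y)⁻¹) * (d y * c gs y * (d y)⁻¹) := by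
      rw [h3]; group
    have h10 : F0 (d (gs • y)) = f (d (gs • y) * (d y)⁻¹) + F0 (d y) := by
      rw [← hl _ _ h8]
      congr 1
      group
    rw [h9, hf _ h8 _ h6, hfS _ _ h5, h10]
    abel
  rw [Finset.sum_congr rfl (fun y _ => h2 y), Finset.sum_add_distrib, Finset.sum_sub_distrib]
  have h3 : ∑ y : Y, F0 (d (gs • y)) = ∑ y : Y, F0 (d y) :=
    Fintype.sum_equiv (MulAction.toPerm gs) _ _ (fun y => rfl)
  rw [h3]
  abel

end graded

end Cfsg.Agent.H747
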